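import Mathlib

/-!
# S4396 (a Frobenius group `FH` of linear maps with `C_V(F) = 0` makes `V` a free `kH`-module)

Definitions.  `ρ : Representation k A V` (`= A →* Module.End k V`), `F, H, S, Z ≤ A`.
-/

set_option autoImplicit false
set_option linter.unusedSectionVars false
set_option linter.unusedVariables false

namespace Cfsg.Agent.Lib.Helper25.FrF

open Subgroup

variable {k : Type*} [Field k] {V : Type*} [AddCommGroup V] [Module k V] {A : Type*} [Group A]

/-- the submodule `X` is free for the subgroup `S`: `X = ⊕_{h ∈ S} h W` for some `W`. -/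
def Fr (ρ : Representation k A V) (S : Subgroup A) (X : Submodule k V) : Prop :=
  ∃ W : Submodule k V, iSupIndep (fun h : S => W.map (ρ (h : A))) ∧
    ⨆ h : S, W.map (ρ (h : A)) = X

/-- standing hypotheses of the abstract theorem (`F` a nilpotent normal subgroup of order
invertible in `k`, without nonzero fixed vectors; every `1 ≠ h ∈ H` is fixed point free on `F`) -/
structure FH (ρ : Representation k A V) (F H : Subgroup A) : Prop where
  normal : F.Normal
  nil : Group.IsNilpotent F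
  fpf : ∀ h ∈ H, h ≠ 1 → ∀ x ∈ F, h * x = x * h → x = 1
  cop : (Nat.card F : k) ≠ 0
  fix : ∀ v : V, (∀ f ∈ F, ρ f v = v) → v = 0

/-- the elements of `F` whose image is central in the image of `F` -/
def zsub (ρ : Representation k A V) (F : Subgroup A) : Subgroup A where
  carrier := {z | z ∈ F ∧ ∀ x ∈ F, ρ z * ρ x = ρ x * ρ z}
  mul_mem' := by
    rintro a b ⟨ha, ha'⟩ ⟨hb, hb'⟩
    refine ⟨mul_mem ha hb, fun x hx => ?_⟩
    rw [map_mul, mul_assoc, hb' x hx, ← mul_assoc, ha' x hx, mul_assoc]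
  one_mem' := ⟨one_mem _, fun x _ => by simp⟩
  inv_mem' := by
    rintro a ⟨ha, ha'⟩
    refine ⟨inv_mem ha, fun x hx => ?_⟩
    have h1 : ρ a⁻¹ * ρ a = 1 := by rw [← map_mul, inv_mul_cancel, map_one]
    have h2 : ρ a * ρ a⁻¹ = 1 := by rw [← map_mul, mul_inv_cancel, map_one]
    calc ρ a⁻¹ * ρ x = ρ a⁻¹ * ρ x * (ρ a * ρ a⁻¹) := by rw [h2, mul_one]
      _ = ρ a⁻¹ * (ρ x * ρ a) * ρ a⁻¹ := by simp only [mul_assoc]
      _ = ρ a⁻¹ * (ρ a * ρ x) * ρ a⁻¹ := by rw [ha' x hx]
      _ = (ρ a⁻¹ * ρ a) * ρ x * ρ a⁻¹ := by simp only [mul_assoc]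
      _ = ρ x * ρ a⁻¹ := by rw [h1, one_mul]

theorem mem_zsub {ρ : Representation k A V} {F : Subgroup A} {z : A} :
    z ∈ zsub ρ F ↔ z ∈ F ∧ ∀ x ∈ F, ρ z * ρ x = ρ x * ρ z := Iff.rfl

/-- the (commutative) algebra of operators spanned by a subgroup `Z` -/
def alg (ρ : Representation k A V) (Z : Subgroup A) : Subalgebra k (Module.End k V) :=
  Algebra.adjoin k (ρ '' (Z : Set A))

/-- the fixed vectors of a subgroup -/
def fixS (ρ : Representation k A V) (Z : Subgroup A) : Submodule k V where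
  carrier := {v | ∀ z ∈ Z, ρ z v = v}
  add_mem' := by
    intro a b ha hb z hz
    rw [map_add, ha z hz, hb z hz]
  zero_mem' := by
    intro z _
    simp
  smul_mem' := by
    intro c v hv z hz
    rw [map_smul, hv z hz]

theorem mem_fixS {ρ : Representation k A V} {Z : Subgroup A} {v : V} :
    v ∈ fixS ρ Z ↔ ∀ z ∈ Z, ρ z v = v := Iff.rfl

/-- `U` is a *component* of `V` for the commutative algebra `𝒜`: `U ≠ 0`, every `b ∈ 𝒜` is zero or
injective on `U`, and `U` is the set of all vectors killed by the annihilator of `U` in `𝒜`. -/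
def IsCmp (𝒜 : Subalgebra k (Module.End k V)) (U : Submodule k V) : Prop :=
  U ≠ ⊥ ∧ (∀ b ∈ 𝒜, U ≤ LinearMap.ker b ∨ U ⊓ LinearMap.ker b = ⊥) ∧
    ∀ v, (∀ a ∈ 𝒜, U ≤ LinearMap.ker a → a v = 0) → v ∈ U

theorem map_rho_mul (ρ : Representation k A V) (a b : A) (U : Submodule k V) :
    U.map (ρ (a * b)) = (U.map (ρ b)).map (ρ a) := by
  rw [map_mul, Module.End.mul_eq_comp, Submodule.map_comp]

theorem map_rho_one (ρ : Representation k A V) (U : Submodule k V) : U.map (ρ 1) = U := by
  rw [map_one]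
  exact Submodule.map_id U

/-- the stabilizer in `H` of the submodule `U` -/
def stb (ρ : Representation k A V) (H : Subgroup A) (U : Submodule k V) : Subgroup A where
  carrier := {h | h ∈ H ∧ U.map (ρ h) = U}
  mul_mem' := by
    rintro a b ⟨ha, ha'⟩ ⟨hb, hb'⟩
    exact ⟨mul_mem ha hb, by rw [map_rho_mul, hb', ha']⟩
  one_mem' := ⟨one_mem _, map_rho_one ρ U⟩
  inv_mem' := by
    rintro a ⟨ha, ha'⟩
    refine ⟨inv_mem ha, ?_⟩
    calc U.map (ρ a⁻¹) = (U.map (ρ a)).map (ρ a⁻¹) := by rw [ha']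
      _ = U := by rw [← map_rho_mul, inv_mul_cancel, map_rho_one]

theorem mem_stb {ρ : Representation k A V} {H : Subgroup A} {U : Submodule k V} {h : A} :
    h ∈ stb ρ H U ↔ h ∈ H ∧ U.map (ρ h) = U := Iff.rfl

/-- restriction of a representation to an invariant subspace -/
def resRep (ρ : Representation k A V) (X : Submodule k V) (hX : ∀ g, ∀ v ∈ X, ρ g v ∈ X) :
    Representation k A X where
  toFun g := (ρ g).restrict (hX g)
  map_one' := by
    ext v
    simp [LinearMap.restrict_apply]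
  map_mul' a b := by
    ext v
    simp [LinearMap.restrict_apply]

theorem resRep_apply (ρ : Representation k A V) (X : Submodule k V)
    (hX : ∀ g, ∀ v ∈ X, ρ g v ∈ X) (g : A) (v : X) :
    ((resRep ρ X hX g v : X) : V) = ρ g v := rfl

end Cfsg.Agent.Lib.Helper25.FrF
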