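import Mathlib
import Cfsg.Agent.Lib.Helper25.FrF.Defs

/-!
# S4396 farm, piece [AL]  (by helper73)
Elementary facts on 𝒜 = alg ρ Z = Algebra.adjoin k (ρ '' Z), Z = zsub ρ F.
-/

set_option autoImplicit false
set_option linter.unusedSectionVars false
set_option linter.unusedVariables false

namespace Cfsg.Agent.Lib.Helper25.FrF

open Subgroup

variable {k : Type*} [Field k] {V : Type*} [AddCommGroup V] [Module k V] {A : Type*} [Group A]

theorem zsub_conj (ρ : Representation k A V) (F : Subgroup A) (hF : F.Normal) (g : A) {z : A}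
    (hz : z ∈ zsub ρ F) : g * z * g⁻¹ ∈ zsub ρ F := by
  obtain ⟨hzF, hzc⟩ := hz
  refine ⟨hF.conj_mem z hzF g, fun x hx => ?_⟩
  have hy : g⁻¹ * x * g ∈ F := by simpa using hF.conj_mem x hx g⁻¹
  have h1 := hzc _ hy
  rw [← map_mul, ← map_mul] at h1 ⊢
  have e1 : g * z * g⁻¹ * x = g * (z * (g⁻¹ * x * g)) * g⁻¹ := by group
  have e2 : x * (g * z * g⁻¹) = g * ((g⁻¹ * x * g) * z) * g⁻¹ := by group
  rw [e1, e2, map_mul, map_mul, h1, ← map_mul, ← map_mul]

theorem alg_comm (ρ : Representation k A V) (F : Subgroup A) :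
    ∀ a ∈ alg ρ (zsub ρ F), ∀ b ∈ alg ρ (zsub ρ F), a * b = b * a := by
  have h0 : ∀ c ∈ ρ '' (zsub ρ F : Set A), ∀ d ∈ ρ '' (zsub ρ F : Set A), Commute c d := by
    rintro _ ⟨z, hz, rfl⟩ _ ⟨w, hw, rfl⟩
    exact hz.2 w hw.1
  have h1 : ∀ c ∈ ρ '' (zsub ρ F : Set A), ∀ b ∈ alg ρ (zsub ρ F), Commute c b := by
    intro c hc b hb
    exact Algebra.commute_of_mem_adjoin_of_forall_mem_commute hb (h0 c hc)
  intro a ha b hb
  exact (Algebra.commute_of_mem_adjoin_of_forall_mem_commute ha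
    (fun c hc => (h1 c hc b hb).symm)).symm

theorem alg_norm (ρ : Representation k A V) (Z : Subgroup A) (g : A)
    (hg : ∀ z ∈ Z, g * z * g⁻¹ ∈ Z) :
    ∀ a ∈ alg ρ Z, ρ g * a * ρ g⁻¹ ∈ alg ρ Z := by
  have h1 : ρ g * ρ g⁻¹ = 1 := by rw [← map_mul, mul_inv_cancel, map_one]
  have h2 : ρ g⁻¹ * ρ g = 1 := by rw [← map_mul, inv_mul_cancel, map_one]
  intro a ha
  unfold alg at ha ⊢
  induction ha using Algebra.adjoin_induction with
  | mem x hx =>
    obtain ⟨z, hz, rfl⟩ := hx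
    apply Algebra.subset_adjoin
    exact ⟨g * z * g⁻¹, hg z hz, by rw [map_mul, map_mul]⟩
  | algebraMap r =>
    have : ρ g * algebraMap k (Module.End k V) r * ρ g⁻¹ = algebraMap k (Module.End k V) r := by
      rw [← Algebra.commutes, mul_assoc, h1, mul_one]
    rw [this]
    exact Subalgebra.algebraMap_mem _ r
  | add x y hx hy ihx ihy =>
    rw [mul_add, add_mul]
    exact add_mem ihx ihy
  | mul x y hx hy ihx ihy =>
    have : ρ g * (x * y) * ρ g⁻¹ = (ρ g * x * ρ g⁻¹) * (ρ g * y * ρ g⁻¹) := by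
      calc ρ g * (x * y) * ρ g⁻¹ = ρ g * x * 1 * y * ρ g⁻¹ := by simp only [mul_assoc, one_mul]
        _ = ρ g * x * (ρ g⁻¹ * ρ g) * y * ρ g⁻¹ := by rw [h2]
        _ = (ρ g * x * ρ g⁻¹) * (ρ g * y * ρ g⁻¹) := by simp only [mul_assoc]
    rw [this]
    exact mul_mem ihx ihy

theorem alg_inv (ρ : Representation k A V) (Z : Subgroup A) (X : Submodule k V)
    (hX : ∀ z ∈ Z, ∀ v ∈ X, ρ z v ∈ X) : ∀ a ∈ alg ρ Z, ∀ v ∈ X, a v ∈ X := by
  intro a ha
  unfold alg at ha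
  induction ha using Algebra.adjoin_induction with
  | mem x hx =>
    obtain ⟨z, hz, rfl⟩ := hx
    exact hX z hz
  | algebraMap r =>
    intro v hv
    rw [Module.algebraMap_end_apply]
    exact X.smul_mem r hv
  | add x y hx hy ihx ihy =>
    intro v hv
    rw [LinearMap.add_apply]
    exact X.add_mem (ihx v hv) (ihy v hv)
  | mul x y hx hy ihx ihy =>
    intro v hv
    rw [Module.End.mul_apply]
    exact ihx _ (ihy v hv)

theorem alg_cp [Finite A] (ρ : Representation k A V) (Z : Subgroup A) (hZ : (Nat.card Z : k) ≠ 0)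
    (X : Submodule k V) (hX : ∀ a ∈ alg ρ Z, ∀ v ∈ X, a v ∈ X) :
    ∃ Y : Submodule k V, (∀ a ∈ alg ρ Z, ∀ v ∈ Y, a v ∈ Y) ∧ IsCompl X Y := by
  let σ : Representation k Z V := ρ.comp Z.subtype
  have : NeZero (Nat.card Z : k) := ⟨hZ⟩
  have hss : Representation.IsSemisimpleRepresentation σ := inferInstance
  obtain ⟨S, hS⟩ := hss.exists_isCompl
    (⟨X, fun g v hv => hX _ (Algebra.subset_adjoin ⟨g, g.2, rfl⟩) v hv⟩ : Subrepresentation σ)
  refine ⟨S.toSubmodule, ?_, ?_⟩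
  · apply alg_inv
    intro z hz v hv
    exact S.apply_mem_toSubmodule ⟨z, hz⟩ hv
  · rw [isCompl_iff, disjoint_iff, codisjoint_iff] at hS ⊢
    exact ⟨congrArg Subrepresentation.toSubmodule hS.1,
      congrArg Subrepresentation.toSubmodule hS.2⟩

theorem card_zsub_ne [Finite A] {ρ : Representation k A V} {F H : Subgroup A} (c : FH ρ F H) :
    (Nat.card (zsub ρ F) : k) ≠ 0 := by
  intro h0
  have hle : zsub ρ F ≤ F := fun z hz => hz.1
  obtain ⟨m, hm⟩ := Subgroup.card_dvd_of_le hle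
  apply c.cop
  rw [hm, Nat.cast_mul, h0, zero_mul]

theorem fixS_inv (ρ : Representation k A V) (Z : Subgroup A) (hZ : ∀ g : A, ∀ z ∈ Z, g * z * g⁻¹ ∈ Z) :
    ∀ g : A, ∀ v ∈ fixS ρ Z, ρ g v ∈ fixS ρ Z := by
  intro g v hv z hz
  have h1 : g⁻¹ * z * g ∈ Z := by simpa using hZ g⁻¹ z hz
  have h2 := hv _ h1
  have e : z * g = g * (g⁻¹ * z * g) := by group
  rw [← Module.End.mul_apply, ← map_mul, e, map_mul, Module.End.mul_apply, h2]

end Cfsg.Agent.Lib.Helper25.FrF
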