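import Mathlib
import Cfsg.Agent.Lib.Helper25.FrF.Defs

/-!
# S4396 farm, piece [CA]  (file Cfsg/Agent/Lib/Helper25/FrF/CA.lean)

A component on which Z acts trivially is the full fixed space of Z.
-/

set_option autoImplicit false
set_option linter.unusedSectionVars false
set_option linter.unusedVariables false

namespace Cfsg.Agent.Lib.Helper25.FrF

open Subgroup

variable {k : Type*} [Field k] {V : Type*} [AddCommGroup V] [Module k V] {A : Type*} [Group A]

theorem CA_scalar (ρ : Representation k A V) (Z : Subgroup A) :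
    ∀ a ∈ alg ρ Z, ∃ s : k, ∀ v ∈ fixS ρ Z, a v = s • v := by
  intro a ha
  induction ha using Algebra.adjoin_induction with
  | mem x hx =>
    obtain ⟨z, hz, rfl⟩ := hx
    exact ⟨1, fun v hv => by rw [hv z hz, one_smul]⟩
  | algebraMap r => exact ⟨r, fun v _ => by simp [Module.algebraMap_end_apply]⟩
  | add x y _ _ hx hy =>
    obtain ⟨s, hs⟩ := hx
    obtain ⟨t, ht⟩ := hy
    exact ⟨s + t, fun v hv => by rw [LinearMap.add_apply, hs v hv, ht v hv, add_smul]⟩
  | mul x y _ _ hx hy =>
    obtain ⟨s, hs⟩ := hx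
    obtain ⟨t, ht⟩ := hy
    exact ⟨s * t, fun v hv => by
      rw [Module.End.mul_apply, ht v hv, map_smul, hs v hv, smul_smul, mul_comm]⟩

theorem caseA (ρ : Representation k A V) (Z : Subgroup A) {U : Submodule k V}
    (hU : IsCmp (alg ρ Z) U) (h : ∀ z ∈ Z, ∀ u ∈ U, ρ z u = u) : U = fixS ρ Z := by
  apply le_antisymm
  · intro u hu z hz
    exact h z hz u hu
  · intro v hv
    apply hU.2.2
    intro a ha hUa
    obtain ⟨s, hs⟩ := CA_scalar ρ Z a ha
    obtain ⟨u, hu, hu0⟩ := Submodule.exists_mem_ne_zero_of_ne_bot hU.1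
    have h1 : a u = 0 := hUa hu
    rw [hs u (fun z hz => h z hz u hu)] at h1
    have hs0 : s = 0 := (smul_eq_zero.1 h1).resolve_right hu0
    rw [hs v hv, hs0, zero_smul]

end Cfsg.Agent.Lib.Helper25.FrF
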