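import Mathlib
import Cfsg.Agent.Lib.Helper25.FrF.Defs

/-!
# S4396 farm, piece [CM]  (by helper73): basic facts on components.
-/

set_option autoImplicit false
set_option linter.unusedSectionVars false
set_option linter.unusedVariables false

namespace Cfsg.Agent.Lib.Helper25.FrF

open Subgroup

variable {k : Type*} [Field k] {V : Type*} [AddCommGroup V] [Module k V]

theorem IsCmp.inv {𝒜 : Subalgebra k (Module.End k V)} {U : Submodule k V} (hU : IsCmp 𝒜 U)
    (g : Module.End k V) (hg : ∀ a ∈ 𝒜, g * a = a * g) : ∀ u ∈ U, g u ∈ U := by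
  intro u hu
  apply hU.2.2
  intro a ha hUa
  have h1 : a (g u) = g (a u) := by
    have := congrArg (fun f : Module.End k V => f u) (hg a ha)
    simpa [Module.End.mul_apply] using this.symm
  rw [h1, LinearMap.mem_ker.mp (hUa hu), map_zero]

theorem IsCmp.map {𝒜 : Subalgebra k (Module.End k V)} {U : Submodule k V} (hU : IsCmp 𝒜 U)
    (g g' : Module.End k V) (h1 : g * g' = 1) (h2 : g' * g = 1)
    (hg : ∀ a ∈ 𝒜, g * a * g' ∈ 𝒜) (hg' : ∀ a ∈ 𝒜, g' * a * g ∈ 𝒜) : IsCmp 𝒜 (U.map g) := by
  have hgg' : ∀ v, g (g' v) = v := fun v => by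
    have := congrArg (fun f : Module.End k V => f v) h1
    simpa [Module.End.mul_apply] using this
  have hg'g : ∀ v, g' (g v) = v := fun v => by
    have := congrArg (fun f : Module.End k V => f v) h2
    simpa [Module.End.mul_apply] using this
  refine ⟨?_, ?_, ?_⟩
  · intro hbot
    apply hU.1
    rw [Submodule.eq_bot_iff]
    intro x hx
    have h3 : g x ∈ U.map g := Submodule.mem_map_of_mem hx
    rw [hbot, Submodule.mem_bot] at h3
    rw [← hg'g x, h3, map_zero]
  · intro b hb
    have hb' := hg' b hb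
    rcases hU.2.1 _ hb' with h | h
    · left
      rintro _ ⟨u, hu, rfl⟩
      rw [LinearMap.mem_ker]
      have h3 : g' (b (g u)) = 0 := h hu
      rw [← hgg' (b (g u)), h3, map_zero]
    · right
      rw [Submodule.eq_bot_iff]
      rintro x ⟨⟨u, hu, rfl⟩, hx⟩
      have hx' : b (g u) = 0 := hx
      have h3 : u ∈ U ⊓ LinearMap.ker (g' * b * g) := by
        refine ⟨hu, ?_⟩
        change g' (b (g u)) = 0
        rw [hx', map_zero]
      rw [h] at h3
      rw [(Submodule.mem_bot k).mp h3, map_zero]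
  · intro v hv
    refine ⟨g' v, ?_, hgg' v⟩
    apply hU.2.2
    intro a' ha' hUa'
    have ha := hg a' ha'
    have hk : U.map g ≤ LinearMap.ker (g * a' * g') := by
      rintro _ ⟨u, hu, rfl⟩
      change g (a' (g' (g u))) = 0
      rw [hg'g, LinearMap.mem_ker.mp (hUa' hu), map_zero]
    have h3 : g (a' (g' v)) = 0 := hv _ ha hk
    rw [← hg'g (a' (g' v)), h3, map_zero]

theorem IsCmp.eq_of_le {𝒜 : Subalgebra k (Module.End k V)} {U U' : Submodule k V}
    (hU : IsCmp 𝒜 U) (hU' : IsCmp 𝒜 U') (h : U ≤ U') : U = U' := by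
  apply le_antisymm h
  intro v hv
  apply hU.2.2
  intro a ha hUa
  rcases hU'.2.1 a ha with h1 | h1
  · exact h1 hv
  · exfalso
    apply hU.1
    rw [eq_bot_iff, ← h1]
    exact le_inf h hUa

end Cfsg.Agent.Lib.Helper25.FrF
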