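import Mathlib

/-!
# S4396 farm, piece [D1]  (file Cfsg/Agent/Lib/Helper25/FrF/D1.lean)

Normal basis theorem in determinant form, for a finite group Γ acting faithfully on a field L.
-/

set_option autoImplicit false
set_option linter.unusedSectionVars false
set_option linter.unusedVariables false

namespace Cfsg.Agent.Lib.Helper25.FrF

open Subgroup

theorem exists_normal_elt {L Γ : Type*} [Field L] [Group Γ] [Fintype Γ] [DecidableEq Γ]
    [MulSemiringAction Γ L] [FaithfulSMul Γ L] :
    ∃ θ : L, (Matrix.of fun γ' γ : Γ => γ' • γ • θ).det ≠ 0 := by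
  classical
  obtain ⟨θ, hθ⟩ := exists_linearIndependent_algEquiv_apply (FixedPoints.subfield Γ L) L
  have hb : LinearIndependent (FixedPoints.subfield Γ L) (fun γ : Γ => γ • θ) :=
    hθ.comp (FixedPoints.toAlgAutMulEquiv Γ L) (FixedPoints.toAlgAutMulEquiv Γ L).injective
  have hcard : Fintype.card Γ = Module.finrank (FixedPoints.subfield Γ L) L :=
    (FixedPoints.finrank_eq_card Γ L).symm
  have hspan : Submodule.span (FixedPoints.subfield Γ L) (Set.range fun γ : Γ => γ • θ) = ⊤ :=
    hb.span_eq_top_of_card_eq_finrank hcard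
  refine ⟨θ, fun hdet => ?_⟩
  obtain ⟨d, hd0, hd⟩ := Matrix.exists_vecMul_eq_zero_iff.2 hdet
  have key : ∀ x : L, ∑ γ' : Γ, d γ' * (γ' • x) = 0 := by
    intro x
    have hx : x ∈ Submodule.span (FixedPoints.subfield Γ L) (Set.range fun γ : Γ => γ • θ) :=
      hspan ▸ Submodule.mem_top
    induction hx using Submodule.span_induction with
    | mem y hy =>
      obtain ⟨γ, rfl⟩ := hy
      have := congrFun hd γ
      simpa [Matrix.vecMul, dotProduct] using this
    | zero => simp
    | add y z _ _ hy hz =>
      simp only [smul_add, mul_add, Finset.sum_add_distrib, hy, hz, add_zero]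
    | smul c y _ hy =>
      have h1 : ∀ γ' : Γ, d γ' * (γ' • (c • y)) = (c : L) * (d γ' * (γ' • y)) := by
        intro γ'
        rw [smul_comm γ' c y]
        rw [Subfield.smul_def, smul_eq_mul]
        ring
      simp only [h1, ← Finset.mul_sum, hy, mul_zero]
  have hli := linearIndependent_monoidHom L L
  let f : Γ → (L →* L) := fun γ => ((MulSemiringAction.toRingHom Γ L γ : L →+* L) : L →* L)
  have hf : Function.Injective f := by
    intro a b hab
    apply FaithfulSMul.eq_of_smul_eq_smul (α := L)
    intro x
    exact DFunLike.congr_fun hab x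
  have hli' := hli.comp f hf
  rw [Fintype.linearIndependent_iff] at hli'
  have h2 := hli' d (by
    ext x
    simpa [f] using key x)
  exact hd0 (funext h2)

end Cfsg.Agent.Lib.Helper25.FrF
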