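import Mathlib

/-!
# S4396 farm, piece [D2]  (file Cfsg/Agent/Lib/Helper25/FrF/D2.lean)

Galois descent for a semilinear action, in coordinates.
-/

set_option autoImplicit false
set_option linter.unusedSectionVars false
set_option linter.unusedVariables false

namespace Cfsg.Agent.Lib.Helper25.FrF

open Subgroup

theorem descent {L Γ W : Type*} [Field L] [Group Γ] [Fintype Γ] [DecidableEq Γ]
    [MulSemiringAction Γ L] [AddCommGroup W] [Module L W] [DistribMulAction Γ W]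
    (hsemi : ∀ (γ : Γ) (c : L) (w : W), γ • (c • w) = (γ • c) • (γ • w)) (θ : L)
    (hθ : (Matrix.of fun γ' γ : Γ => γ' • γ • θ).det ≠ 0) :
    (∀ w : W, ∃ c : Γ → W, (∀ γ γ' : Γ, γ' • c γ = c γ) ∧ w = ∑ γ, (γ • θ) • c γ) ∧
    (∀ c : Γ → W, (∀ γ γ' : Γ, γ' • c γ = c γ) → ∑ γ, (γ • θ) • c γ = 0 → ∀ γ, c γ = 0) := by
  classical
  set M : Matrix Γ Γ L := Matrix.of fun γ' γ => γ' • γ • θ with hM
  have hMa : ∀ a b, M a b = a • b • θ := fun a b => rfl
  have hu : IsUnit M.det := isUnit_iff_ne_zero.2 hθ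
  have hMN : M * M⁻¹ = 1 := Matrix.mul_nonsing_inv M hu
  have hNM : M⁻¹ * M = 1 := Matrix.nonsing_inv_mul M hu
  constructor
  · intro w
    have star : ∀ γ'' : Γ, ∑ δ, (δ • θ) * (γ'' • M⁻¹ δ 1) = if γ'' = 1 then 1 else 0 := by
      intro γ''
      have h1 : ∑ δ, M γ''⁻¹ δ * M⁻¹ δ 1 = (1 : Matrix Γ Γ L) γ''⁻¹ 1 := by
        rw [← hMN, Matrix.mul_apply]
      have h2 := congrArg (fun x => γ'' • x) h1
      simp only [Finset.smul_sum, smul_mul', hMa, smul_smul, mul_inv_cancel_left] at h2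
      rw [h2, Matrix.one_apply]
      by_cases h3 : γ'' = 1
      · simp [h3]
      · have h4 : γ''⁻¹ ≠ 1 := by simpa using h3
        simp [h3, h4]
    refine ⟨fun δ => ∑ γ'' : Γ, γ'' • (M⁻¹ δ 1 • w), ?_, ?_⟩
    · intro γ γ'
      rw [Finset.smul_sum]
      simp only [smul_smul]
      exact Fintype.sum_equiv (Equiv.mulLeft γ') _ _ (fun x => rfl)
    · simp only [Finset.smul_sum, hsemi, smul_smul]
      rw [Finset.sum_comm]
      simp only [← Finset.sum_smul, star]
      simp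
  · intro c hc h0 δ
    have h1 : ∀ γ', ∑ γ, M γ' γ • c γ = 0 := by
      intro γ'
      have := congrArg (fun x => γ' • x) h0
      simp only [Finset.smul_sum, hsemi, hc, smul_zero] at this
      exact this
    calc c δ = ∑ γ, (1 : Matrix Γ Γ L) δ γ • c γ := by simp [Matrix.one_apply]
      _ = ∑ γ, (∑ γ', M⁻¹ δ γ' * M γ' γ) • c γ := by
        rw [← hNM]; simp only [Matrix.mul_apply]
      _ = ∑ γ', M⁻¹ δ γ' • ∑ γ, M γ' γ • c γ := by
        simp only [Finset.sum_smul, Finset.smul_sum, smul_smul]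
        rw [Finset.sum_comm]
      _ = 0 := by simp [h1]

end Cfsg.Agent.Lib.Helper25.FrF
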