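import Mathlib
import Cfsg.Agent.Lib.Helper25.FrF.D1
import Cfsg.Agent.Lib.Helper25.FrF.D2

/-!
# S4396 farm, piece [D3a]  (helper88)

Operator form of D1 + D2.
-/

set_option autoImplicit false
set_option linter.unusedSectionVars false
set_option linter.unusedVariables false
set_option linter.style.haveILetI false

namespace Cfsg.Agent.Lib.Helper25.FrF

open Subgroup

theorem D3a_aux {k : Type*} [Field k] {U : Type*} [AddCommGroup U] [Module k U]
    {Γ : Type*} [Group Γ] [Fintype Γ] {L : Type*} [Field L] [MulSemiringAction Γ L]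
    [FaithfulSMul Γ L] (σ : Representation k Γ U) (ι : L →+* Module.End k U)
    (hι : ∀ (γ : Γ) (a : L), ι (γ • a) = σ γ * ι a * σ γ⁻¹) :
    ∃ θ : Module.End k U,
      (∀ w : U, ∃ c : Γ → U, (∀ γ γ' : Γ, σ γ' (c γ) = c γ) ∧
        w = ∑ γ, (σ γ * θ * σ γ⁻¹) (c γ)) ∧
      (∀ c : Γ → U, (∀ γ γ' : Γ, σ γ' (c γ) = c γ) → ∑ γ, (σ γ * θ * σ γ⁻¹) (c γ) = 0 →
        ∀ γ, c γ = 0) := by
  classical
  letI : Module L U := Module.compHom U ι
  letI : DistribMulAction Γ U :=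
    { smul := fun γ u => σ γ u
      one_smul := fun u => by
        show σ 1 u = u
        rw [map_one]; rfl
      mul_smul := fun a b u => by
        show σ (a * b) u = σ a (σ b u)
        rw [map_mul]; rfl
      smul_zero := fun a => map_zero _
      smul_add := fun a u v => map_add _ _ _ }
  have hsm : ∀ (c : L) (u : U), c • u = ι c u := fun _ _ => rfl
  have hgm : ∀ (γ : Γ) (u : U), γ • u = σ γ u := fun _ _ => rfl
  have hsemi : ∀ (γ : Γ) (c : L) (w : U), γ • (c • w) = (γ • c) • (γ • w) := by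
    intro γ c w
    rw [hsm, hsm, hgm, hgm, hι, Module.End.mul_apply, Module.End.mul_apply,
      ← Module.End.mul_apply (σ γ⁻¹), ← map_mul, inv_mul_cancel, map_one, Module.End.one_apply]
  obtain ⟨θ, hθ⟩ := exists_normal_elt (L := L) (Γ := Γ)
  obtain ⟨h1, h2⟩ := descent hsemi θ hθ
  refine ⟨ι θ, ?_, ?_⟩
  · intro w
    obtain ⟨c, hc, hw⟩ := h1 w
    refine ⟨c, hc, ?_⟩
    rw [hw]
    apply Finset.sum_congr rfl
    intro γ _
    rw [hsm, hι]
  · intro c hc hs
    apply h2 c hc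
    rw [← hs]
    apply Finset.sum_congr rfl
    intro γ _
    rw [hsm, hι]

theorem D3a_isField {k : Type*} [Field k] {U : Type*} [AddCommGroup U] [Module k U]
    [FiniteDimensional k U] [Nontrivial U] (ℒ : Subalgebra k (Module.End k U))
    (hcomm : ∀ a ∈ ℒ, ∀ b ∈ ℒ, a * b = b * a)
    (hdom : ∀ a ∈ ℒ, a = 0 ∨ Function.Injective a) : IsField ℒ where
  exists_pair_ne := ⟨0, 1, zero_ne_one⟩
  mul_comm := fun a b => Subtype.ext (hcomm a.1 a.2 b.1 b.2)
  mul_inv_cancel := by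
    intro a ha
    have hinj : Function.Injective (a.1 : Module.End k U) := by
      rcases hdom a.1 a.2 with h | h
      · exact absurd (Subtype.ext h) ha
      · exact h
    have h1 : Function.Injective (LinearMap.mulLeft k a) := by
      rw [← LinearMap.ker_eq_bot, LinearMap.ker_eq_bot']
      intro b hb
      rw [LinearMap.mulLeft_apply] at hb
      apply Subtype.ext
      ext u
      apply hinj
      have := congrArg (fun x : ℒ => (x : Module.End k U) u) hb
      simpa using this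
    obtain ⟨b, hb⟩ := (LinearMap.injective_iff_surjective.mp h1) 1
    exact ⟨b, hb⟩

theorem descent_op {k : Type*} [Field k] {U : Type*} [AddCommGroup U] [Module k U]
    [FiniteDimensional k U] [Nontrivial U] {Γ : Type*} [Group Γ] [Fintype Γ]
    (σ : Representation k Γ U) (ℒ : Subalgebra k (Module.End k U))
    (hcomm : ∀ a ∈ ℒ, ∀ b ∈ ℒ, a * b = b * a)
    (hdom : ∀ a ∈ ℒ, a = 0 ∨ Function.Injective a)
    (hnorm : ∀ γ : Γ, ∀ a ∈ ℒ, σ γ * a * σ γ⁻¹ ∈ ℒ)
    (hfaith : ∀ γ : Γ, γ ≠ 1 → ∃ a ∈ ℒ, σ γ * a * σ γ⁻¹ ≠ a) :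
    ∃ θ : Module.End k U,
      (∀ w : U, ∃ c : Γ → U, (∀ γ γ' : Γ, σ γ' (c γ) = c γ) ∧
        w = ∑ γ, (σ γ * θ * σ γ⁻¹) (c γ)) ∧
      (∀ c : Γ → U, (∀ γ γ' : Γ, σ γ' (c γ) = c γ) → ∑ γ, (σ γ * θ * σ γ⁻¹) (c γ) = 0 →
        ∀ γ, c γ = 0) := by
  have hinv : ∀ γ : Γ, σ γ⁻¹ * σ γ = 1 := fun γ => by rw [← map_mul, inv_mul_cancel, map_one]
  have hinv' : ∀ γ : Γ, σ γ * σ γ⁻¹ = 1 := fun γ => by rw [← map_mul, mul_inv_cancel, map_one]
  letI : Field ℒ := (D3a_isField ℒ hcomm hdom).toField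
  letI : MulSemiringAction Γ ℒ :=
    { smul := fun γ a => ⟨σ γ * a.1 * σ γ⁻¹, hnorm γ a.1 a.2⟩
      one_smul := fun a => Subtype.ext (by
        show σ 1 * a.1 * σ 1⁻¹ = a.1
        rw [inv_one, map_one, one_mul, mul_one])
      mul_smul := fun x y a => Subtype.ext (by
        show σ (x * y) * a.1 * σ (x * y)⁻¹ = σ x * (σ y * a.1 * σ y⁻¹) * σ x⁻¹
        rw [mul_inv_rev, map_mul, map_mul]
        simp only [mul_assoc])
      smul_zero := fun x => Subtype.ext (by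
        show σ x * 0 * σ x⁻¹ = 0
        rw [mul_zero, zero_mul])
      smul_add := fun x a b => Subtype.ext (by
        show σ x * (a.1 + b.1) * σ x⁻¹ = σ x * a.1 * σ x⁻¹ + σ x * b.1 * σ x⁻¹
        rw [mul_add, add_mul])
      smul_one := fun x => Subtype.ext (by
        show σ x * 1 * σ x⁻¹ = 1
        rw [mul_one, hinv'])
      smul_mul := fun x a b => Subtype.ext (by
        show σ x * (a.1 * b.1) * σ x⁻¹ = (σ x * a.1 * σ x⁻¹) * (σ x * b.1 * σ x⁻¹)
        calc σ x * (a.1 * b.1) * σ x⁻¹ = σ x * a.1 * 1 * b.1 * σ x⁻¹ := by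
              simp only [mul_assoc, one_mul]
          _ = σ x * a.1 * (σ x⁻¹ * σ x) * b.1 * σ x⁻¹ := by rw [hinv]
          _ = _ := by simp only [mul_assoc]) }
  have hsm : ∀ (γ : Γ) (a : ℒ), ((γ • a : ℒ) : Module.End k U) = σ γ * a.1 * σ γ⁻¹ :=
    fun _ _ => rfl
  haveI : FaithfulSMul Γ ℒ := ⟨by
    intro γ γ' h
    by_contra hne
    have hδ : γ'⁻¹ * γ ≠ 1 := by
      intro h1
      apply hne
      rw [inv_mul_eq_one] at h1
      exact h1.symm
    obtain ⟨a, ha, hne'⟩ := hfaith _ hδ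
    apply hne'
    have h2 := congrArg Subtype.val (h ⟨a, ha⟩)
    rw [hsm, hsm] at h2
    have h2' : σ γ * a * σ γ⁻¹ = σ γ' * a * σ γ'⁻¹ := h2
    calc σ (γ'⁻¹ * γ) * a * σ (γ'⁻¹ * γ)⁻¹ = σ γ'⁻¹ * (σ γ * a * σ γ⁻¹) * σ γ' := by
          rw [mul_inv_rev, inv_inv, map_mul, map_mul]
          simp only [mul_assoc]
      _ = (σ γ'⁻¹ * σ γ') * a * (σ γ'⁻¹ * σ γ') := by
          rw [h2']
          simp only [mul_assoc]
      _ = a := by rw [hinv, one_mul, mul_one]⟩
  let ι : ℒ →+* Module.End k U :=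
    { toFun := Subtype.val
      map_one' := rfl
      map_mul' := fun _ _ => rfl
      map_zero' := rfl
      map_add' := fun _ _ => rfl }
  exact D3a_aux σ ι (fun γ a => hsm γ a)

end Cfsg.Agent.Lib.Helper25.FrF
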