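import Mathlib
import Cfsg.Agent.Lib.Helper25.FrF.D3a

/-!
# S4396 farm, piece [D3b]  (helper3)
-/

set_option autoImplicit false
set_option linter.unusedSectionVars false
set_option linter.unusedVariables false

namespace Cfsg.Agent.Lib.Helper25.FrF

open Subgroup

theorem free_of_field {k : Type*} [Field k] {U : Type*} [AddCommGroup U] [Module k U]
    [FiniteDimensional k U] {Γ : Type*} [Group Γ] [Finite Γ]
    (σ : Representation k Γ U) (ℒ : Subalgebra k (Module.End k U))
    (hcomm : ∀ a ∈ ℒ, ∀ b ∈ ℒ, a * b = b * a)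
    (hdom : ∀ a ∈ ℒ, a = 0 ∨ Function.Injective a)
    (hnorm : ∀ γ : Γ, ∀ a ∈ ℒ, σ γ * a * σ γ⁻¹ ∈ ℒ)
    (hfaith : ∀ γ : Γ, γ ≠ 1 → ∃ a ∈ ℒ, σ γ * a * σ γ⁻¹ ≠ a) :
    ∃ W : Submodule k U, iSupIndep (fun γ : Γ => W.map (σ γ)) ∧ ⨆ γ : Γ, W.map (σ γ) = ⊤ := by
  classical
  rcases subsingleton_or_nontrivial U with hs | hnt
  · refine ⟨⊥, ?_, Subsingleton.elim _ _⟩
    intro γ
    simp only [Submodule.map_bot]
    exact disjoint_bot_left
  · have : Fintype Γ := Fintype.ofFinite Γ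
    obtain ⟨θ, h1, h2⟩ := descent_op σ ℒ hcomm hdom hnorm hfaith
    let W₀ : Submodule k U :=
      { carrier := {u | ∀ γ, σ γ u = u}
        add_mem' := by
          intro a b ha hb γ
          rw [map_add, ha γ, hb γ]
        zero_mem' := by
          intro γ
          exact map_zero _
        smul_mem' := by
          intro c u hu γ
          rw [map_smul, hu γ] }
    have hW₀ : ∀ u, u ∈ W₀ ↔ ∀ γ, σ γ u = u := fun u => Iff.rfl
    let T : Γ → Module.End k U := fun γ => σ γ * θ * σ γ⁻¹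
    have hT : ∀ γ u, u ∈ W₀ → T γ u = σ γ (θ u) := by
      intro γ u hu
      simp only [T, Module.End.mul_apply]
      rw [(hW₀ u).1 hu γ⁻¹]
    have hmap : ∀ γ, (W₀.map θ).map (σ γ) = W₀.map (T γ) := by
      intro γ
      ext x
      simp only [Submodule.mem_map]
      constructor
      · rintro ⟨y, ⟨u, hu, rfl⟩, rfl⟩
        exact ⟨u, hu, hT γ u hu⟩
      · rintro ⟨u, hu, rfl⟩
        exact ⟨θ u, ⟨u, hu, rfl⟩, (hT γ u hu).symm⟩
    refine ⟨W₀.map θ, ?_, ?_⟩
    · rw [iSupIndep_iff_finsetSum_eq_zero_imp_eq_zero]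
      intro s v hv hsum i hi
      have hex : ∀ γ, ∃ c : U, (∀ γ', σ γ' c = c) ∧ (γ ∈ s → v γ = T γ c) ∧ (γ ∉ s → c = 0) := by
        intro γ
        by_cases hγ : γ ∈ s
        · have := hv γ hγ
          rw [hmap] at this
          obtain ⟨c, hc, hcv⟩ := this
          exact ⟨c, hc, fun _ => hcv.symm, fun h => absurd hγ h⟩
        · exact ⟨0, fun _ => map_zero _, fun h => absurd h hγ, fun _ => rfl⟩
      choose c hc1 hc2 hc3 using hex
      have hs0 : ∑ γ, (σ γ * θ * σ γ⁻¹) (c γ) = 0 := by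
        rw [← hsum]
        symm
        rw [← Finset.sum_subset (Finset.subset_univ s)]
        · apply Finset.sum_congr rfl
          intro γ hγ
          exact hc2 γ hγ
        · intro γ _ hγ
          rw [hc3 γ hγ, map_zero]
      have := h2 c (fun γ γ' => hc1 γ γ') hs0 i
      rw [hc2 i hi, this, map_zero]
    · rw [eq_top_iff]
      intro w _
      obtain ⟨c, hc, hw⟩ := h1 w
      rw [hw]
      apply Submodule.sum_mem
      intro γ _
      apply Submodule.mem_iSup_of_mem γ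
      rw [hmap]
      exact ⟨c γ, fun γ' => hc γ γ', rfl⟩

end Cfsg.Agent.Lib.Helper25.FrF
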