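import Mathlib
import Cfsg.Agent.Lib.Helper25.FrF.Defs

/-!
# S4396 farm, piece [TR]  (file Cfsg/Agent/Lib/Helper25/FrF/TR.lean)

Transport from the type ↥X to the ambient space.
-/

set_option autoImplicit false
set_option linter.unusedSectionVars false
set_option linter.unusedVariables false

namespace Cfsg.Agent.Lib.Helper25.FrF

open Subgroup

variable {k : Type*} [Field k] {V : Type*} [AddCommGroup V] [Module k V] {A : Type*} [Group A]

theorem fr_transport (ρ : Representation k A V) (S : Subgroup A) (X : Submodule k V)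
    (τ : S → Module.End k X) (hτ : ∀ (h : S) (x : X), ((τ h x : X) : V) = ρ (h : A) x)
    (W' : Submodule k X) (h1 : iSupIndep fun h : S => W'.map (τ h))
    (h2 : ⨆ h : S, W'.map (τ h) = ⊤) : Fr ρ S X := by
  have key : ∀ h : S, (W'.map (τ h)).map X.subtype = (W'.map X.subtype).map (ρ (h : A)) := by
    intro h
    rw [← Submodule.map_comp, ← Submodule.map_comp]
    congr 1
    ext x
    exact hτ h x
  refine ⟨W'.map X.subtype, ?_, ?_⟩
  · have h3 := LinearMap.iSupIndep_map X.subtype X.injective_subtype h1
    simpa only [key] using h3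
  · simp only [← key]
    rw [← Submodule.map_iSup, h2, Submodule.map_subtype_top]

theorem fr_of_res (ρ : Representation k A V) (X : Submodule k V) (hX : ∀ g, ∀ v ∈ X, ρ g v ∈ X)
    (S : Subgroup A) (h : Fr (resRep ρ X hX) S ⊤) : Fr ρ S X := by
  obtain ⟨W', h1, h2⟩ := h
  exact fr_transport ρ S X (fun h => resRep ρ X hX h) (fun _ _ => rfl) W' h1 h2

theorem FH.res {ρ : Representation k A V} {F H : Subgroup A} (c : FH ρ F H) (X : Submodule k V)
    (hX : ∀ g, ∀ v ∈ X, ρ g v ∈ X) : FH (resRep ρ X hX) F H where
  normal := c.normal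
  nil := c.nil
  fpf := c.fpf
  cop := c.cop
  fix := by
    intro v hv
    apply Subtype.ext
    apply c.fix
    intro f hf
    have := congrArg Subtype.val (hv f hf)
    exact this

theorem fr_subsingleton [Subsingleton V] (ρ : Representation k A V) (S : Subgroup A) :
    Fr ρ S ⊤ := by
  refine ⟨⊥, ?_, Subsingleton.elim _ _⟩
  intro i
  show Disjoint ((⊥ : Submodule k V).map (ρ (i : A))) _
  rw [Submodule.map_bot]
  exact disjoint_bot_left

end Cfsg.Agent.Lib.Helper25.FrF
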