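import Mathlib
import Cfsg.Agent.Lib.Helper25.FrF.Defs
import Cfsg.Agent.Lib.Helper25.FrF.TR
import Cfsg.Agent.Lib.Helper25.FrF.D3b

/-!
# S4396 farm, piece [D4]  (helper3)

Ambient form of free_of_field.
-/

set_option autoImplicit false
set_option linter.unusedSectionVars false
set_option linter.unusedVariables false

namespace Cfsg.Agent.Lib.Helper25.FrF

open Subgroup

variable {k : Type*} [Field k] {V : Type*} [AddCommGroup V] [Module k V] {A : Type*} [Group A]

/-- the operators on `U` induced by the elements of `𝒜` -/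
def D4_res (U : Submodule k V) (𝒜 : Subalgebra k (Module.End k V)) :
    Subalgebra k (Module.End k U) where
  carrier := {b | ∃ a ∈ 𝒜, ∀ u : U, ((b u : U) : V) = a u}
  mul_mem' := by
    rintro b1 b2 ⟨a1, h1, e1⟩ ⟨a2, h2, e2⟩
    refine ⟨a1 * a2, 𝒜.mul_mem h1 h2, fun u => ?_⟩
    rw [Module.End.mul_apply, Module.End.mul_apply, e1, e2]
  add_mem' := by
    rintro b1 b2 ⟨a1, h1, e1⟩ ⟨a2, h2, e2⟩
    refine ⟨a1 + a2, 𝒜.add_mem h1 h2, fun u => ?_⟩
    rw [LinearMap.add_apply, LinearMap.add_apply, Submodule.coe_add, e1, e2]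
  algebraMap_mem' := by
    intro r
    refine ⟨algebraMap k _ r, 𝒜.algebraMap_mem r, fun u => ?_⟩
    rw [Module.algebraMap_end_apply, Module.algebraMap_end_apply, Submodule.coe_smul]

theorem lemmaD [FiniteDimensional k V] [Finite A] (ρ : Representation k A V) (S : Subgroup A)
    (U : Submodule k V) (𝒜 : Subalgebra k (Module.End k V))
    (hcomm : ∀ a ∈ 𝒜, ∀ b ∈ 𝒜, a * b = b * a)
    (hinv : ∀ a ∈ 𝒜, ∀ u ∈ U, a u ∈ U)
    (hdich : ∀ b ∈ 𝒜, U ≤ LinearMap.ker b ∨ U ⊓ LinearMap.ker b = ⊥)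
    (hstab : ∀ h ∈ S, ∀ u ∈ U, ρ h u ∈ U)
    (hnorm : ∀ h ∈ S, ∀ a ∈ 𝒜, ρ h * a * ρ h⁻¹ ∈ 𝒜)
    (hfaith : ∀ h ∈ S, h ≠ 1 → ∃ a ∈ 𝒜, ∃ u ∈ U, ρ h (a (ρ h⁻¹ u)) ≠ a u) :
    Fr ρ S U := by
  classical
  let σ : Representation k S U :=
    { toFun := fun γ => (ρ (γ : A)).restrict (hstab γ γ.2)
      map_one' := by
        ext v
        simp [LinearMap.restrict_apply]
      map_mul' := fun a b => by
        ext v
        simp [LinearMap.restrict_apply] }
  have hσ : ∀ (γ : S) (u : U), ((σ γ u : U) : V) = ρ (γ : A) u := fun _ _ => rfl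
  obtain ⟨W', h1, h2⟩ := free_of_field σ (D4_res U 𝒜)
    (by
      rintro b1 ⟨a1, m1, e1⟩ b2 ⟨a2, m2, e2⟩
      ext u
      rw [Module.End.mul_apply, Module.End.mul_apply, e1, e2, e2, e1,
        ← Module.End.mul_apply, hcomm a1 m1 a2 m2, Module.End.mul_apply])
    (by
      rintro b ⟨a, m, e⟩
      rcases hdich a m with h | h
      · left
        ext u
        rw [e, LinearMap.zero_apply, Submodule.coe_zero]
        exact h u.2
      · right
        rw [injective_iff_map_eq_zero]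
        intro u hu
        have h0 : a (u : V) = 0 := by rw [← e, hu, Submodule.coe_zero]
        have : (u : V) ∈ U ⊓ LinearMap.ker a := ⟨u.2, h0⟩
        rw [h] at this
        exact Subtype.ext ((Submodule.mem_bot k).1 this))
    (by
      rintro γ b ⟨a, m, e⟩
      refine ⟨ρ (γ : A) * a * ρ (γ : A)⁻¹, hnorm γ γ.2 a m, fun u => ?_⟩
      rw [Module.End.mul_apply, Module.End.mul_apply, Module.End.mul_apply, Module.End.mul_apply,
        hσ, e, hσ]
      rfl)
    (by
      intro γ hγ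
      have hγ' : (γ : A) ≠ 1 := fun h => hγ (Subtype.ext h)
      obtain ⟨a, m, u, hu, hne⟩ := hfaith γ γ.2 hγ'
      refine ⟨a.restrict (hinv a m), ⟨a, m, fun _ => rfl⟩, fun heq => hne ?_⟩
      have := congrArg (fun x : U => (x : V)) (LinearMap.congr_fun heq ⟨u, hu⟩)
      exact this)
  exact fr_transport ρ S U (fun γ => σ γ) (fun _ _ => rfl) W' h1 h2

end Cfsg.Agent.Lib.Helper25.FrF
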