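import Mathlib
import Cfsg.Agent.Lib.Helper25.FrF.Defs
import Cfsg.Agent.Lib.Helper25.FrF.CM

/-!
# S4396 farm, piece [DEC1]  (by helper73)
The components of a commutative algebra of operators are independent.
-/

set_option autoImplicit false
set_option linter.unusedSectionVars false
set_option linter.unusedVariables false

namespace Cfsg.Agent.Lib.Helper25.FrF

open Subgroup

variable {k : Type*} [Field k] {V : Type*} [AddCommGroup V] [Module k V]

theorem dec1 (𝒜 : Subalgebra k (Module.End k V)) (hcomm : ∀ a ∈ 𝒜, ∀ b ∈ 𝒜, a * b = b * a) :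
    sSupIndep {U : Submodule k V | IsCmp 𝒜 U} := by
  intro U hU
  have hU' : IsCmp 𝒜 U := hU
  rw [Submodule.disjoint_def]
  intro x hxU hxN
  have hQ : ∀ y ∈ sSup ({U' : Submodule k V | IsCmp 𝒜 U'} \ {U}),
      ∃ a ∈ 𝒜, a y = 0 ∧ ¬ U ≤ LinearMap.ker a := by
    intro y hy
    rw [sSup_eq_iSup'] at hy
    refine Submodule.iSup_induction _
      (motive := fun y => ∃ a ∈ 𝒜, a y = 0 ∧ ¬ U ≤ LinearMap.ker a) hy ?_ ?_ ?_
    · rintro ⟨U1, hU1, hne⟩ y hy
      have hU1' : IsCmp 𝒜 U1 := hU1
      have hy' : y ∈ U1 := hy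
      by_contra hcon
      push Not at hcon
      apply hne
      have hle : U ≤ U1 := by
        intro u hu
        apply hU1'.2.2
        intro a ha hUa
        exact hcon a ha (hUa hy') hu
      exact (IsCmp.eq_of_le hU' hU1' hle).symm
    · refine ⟨1, 𝒜.one_mem, map_zero _, ?_⟩
      intro h
      apply hU'.1
      rw [Submodule.eq_bot_iff]
      intro u hu
      exact h hu
    · rintro y y' ⟨a, ha, hay, haU⟩ ⟨a', ha', hay', haU'⟩
      refine ⟨a * a', 𝒜.mul_mem ha ha', ?_, ?_⟩
      · rw [map_add]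
        have e1 : (a * a') y = 0 := by
          rw [hcomm a ha a' ha', Module.End.mul_apply, hay, map_zero]
        have e2 : (a * a') y' = 0 := by
          rw [Module.End.mul_apply, hay', map_zero]
        rw [e1, e2, add_zero]
      · intro h
        have i1 := (hU'.2.1 a ha).resolve_left haU
        have i2 := (hU'.2.1 a' ha').resolve_left haU'
        obtain ⟨u, hu, hu0⟩ := Submodule.exists_mem_ne_zero_of_ne_bot hU'.1
        have h1 : a (a' u) = 0 := h hu
        have h2 : a' u ∈ U := IsCmp.inv hU' a' (fun b hb => hcomm a' ha' b hb) u hu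
        have h3 : a' u ∈ U ⊓ LinearMap.ker a := ⟨h2, h1⟩
        rw [i1, Submodule.mem_bot] at h3
        have h4 : u ∈ U ⊓ LinearMap.ker a' := ⟨hu, h3⟩
        rw [i2, Submodule.mem_bot] at h4
        exact hu0 h4
  obtain ⟨a, ha, hax, haU⟩ := hQ x hxN
  have i1 := (hU'.2.1 a ha).resolve_left haU
  have h3 : x ∈ U ⊓ LinearMap.ker a := ⟨hxU, hax⟩
  rwa [i1, Submodule.mem_bot] at h3

end Cfsg.Agent.Lib.Helper25.FrF
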