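import Mathlib
import Cfsg.Agent.Lib.Helper25.FrF.Defs
import Cfsg.Agent.Lib.Helper25.FrF.CM

/-!
# S4396 farm, piece [DEC2]  (helper88)

If every 𝒜-invariant subspace has an 𝒜-invariant complement, V is the sum of the components.
-/

set_option autoImplicit false
set_option linter.unusedSectionVars false
set_option linter.unusedVariables false
set_option linter.style.haveILetI false

namespace Cfsg.Agent.Lib.Helper25.FrF

open Subgroup

variable {k : Type*} [Field k] {V : Type*} [AddCommGroup V] [Module k V]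

theorem DEC2_isField {U : Type*} [AddCommGroup U] [Module k U]
    [FiniteDimensional k U] [Nontrivial U] (ℒ : Subalgebra k (Module.End k U))
    (hcomm : ∀ a ∈ ℒ, ∀ b ∈ ℒ, a * b = b * a)
    (hdom : ∀ a ∈ ℒ, a = 0 ∨ Function.Injective a) : IsField ℒ where
  exists_pair_ne := ⟨0, 1, zero_ne_one⟩
  mul_comm := fun a b => Subtype.ext (hcomm a.1 a.2 b.1 b.2)
  mul_inv_cancel := by
    intro a ha
    have hinj : Function.Injective (a.1 : Module.End k U) := by
      rcases hdom a.1 a.2 with h | h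
      · exact absurd (Subtype.ext h) ha
      · exact h
    have h1 : Function.Injective (LinearMap.mulLeft k a) := by
      rw [← LinearMap.ker_eq_bot, LinearMap.ker_eq_bot']
      intro b hb
      rw [LinearMap.mulLeft_apply] at hb
      apply Subtype.ext
      ext u
      apply hinj
      have := congrArg (fun x : ℒ => (x : Module.End k U) u) hb
      simpa using this
    obtain ⟨b, hb⟩ := (LinearMap.injective_iff_surjective.mp h1) 1
    exact ⟨b, hb⟩

/-- restriction to an invariant subspace, as an algebra homomorphism -/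
def DEC2_res (𝒜 : Subalgebra k (Module.End k V)) (D : Submodule k V)
    (hD : ∀ a ∈ 𝒜, ∀ v ∈ D, a v ∈ D) : 𝒜 →ₐ[k] Module.End k D where
  toFun a := a.1.restrict (hD a.1 a.2)
  map_one' := by ext v; rfl
  map_mul' a b := by ext v; rfl
  map_zero' := by ext v; rfl
  map_add' a b := by ext v; rfl
  commutes' r := by ext v; rfl

theorem DEC2_res_apply (𝒜 : Subalgebra k (Module.End k V)) (D : Submodule k V)
    (hD : ∀ a ∈ 𝒜, ∀ v ∈ D, a v ∈ D) (a : 𝒜) (v : D) :
    ((DEC2_res 𝒜 D hD a v : D) : V) = a.1 v.1 := rfl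

/-- inverse modulo the annihilator -/
theorem DEC2_inv [FiniteDimensional k V] (𝒜 : Subalgebra k (Module.End k V))
    (hcomm : ∀ a ∈ 𝒜, ∀ b ∈ 𝒜, a * b = b * a) (D : Submodule k V) (hD0 : D ≠ ⊥)
    (hD : ∀ a ∈ 𝒜, ∀ v ∈ D, a v ∈ D)
    (h1 : ∀ b ∈ 𝒜, D ≤ LinearMap.ker b ∨ D ⊓ LinearMap.ker b = ⊥)
    (b : Module.End k V) (hb : b ∈ 𝒜) (hbD : D ⊓ LinearMap.ker b = ⊥) :
    ∃ b' ∈ 𝒜, ∀ d ∈ D, b' (b d) = d := by
  haveI : Nontrivial D := Submodule.nontrivial_iff_ne_bot.mpr hD0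
  have hF := DEC2_isField (DEC2_res 𝒜 D hD).range
    (by
      rintro _ ⟨x, rfl⟩ _ ⟨y, rfl⟩
      rw [← map_mul, ← map_mul]
      congr 1
      exact Subtype.ext (hcomm x.1 x.2 y.1 y.2))
    (by
      rintro _ ⟨x, rfl⟩
      rcases h1 x.1 x.2 with h | h
      · left
        ext v
        exact h v.2
      · right
        rw [← LinearMap.ker_eq_bot, LinearMap.ker_eq_bot']
        intro v hv
        have h2 : x.1 v.1 = 0 := congrArg Subtype.val hv
        have h3 : v.1 ∈ D ⊓ LinearMap.ker x.1 := ⟨v.2, h2⟩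
        rw [h] at h3
        exact Subtype.ext h3)
  have hne : (⟨DEC2_res 𝒜 D hD ⟨b, hb⟩, ⟨_, rfl⟩⟩ : (DEC2_res 𝒜 D hD).range) ≠ 0 := by
    intro h0
    obtain ⟨d, hd, hd0⟩ := Submodule.exists_mem_ne_zero_of_ne_bot hD0
    apply hd0
    have h2 : DEC2_res 𝒜 D hD ⟨b, hb⟩ = 0 := congrArg Subtype.val h0
    have h3 : b d = 0 := congrArg Subtype.val (LinearMap.congr_fun h2 ⟨d, hd⟩)
    have h4 : d ∈ D ⊓ LinearMap.ker b := ⟨hd, h3⟩
    rw [hbD] at h4
    exact h4
  obtain ⟨⟨_, ⟨b', rfl⟩⟩, hy⟩ := hF.mul_inv_cancel hne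
  refine ⟨b'.1, b'.2, ?_⟩
  intro d hd
  have h2 : DEC2_res 𝒜 D hD ⟨b, hb⟩ * DEC2_res 𝒜 D hD b' = 1 := congrArg Subtype.val hy
  have h3 : b (b'.1 d) = d := congrArg Subtype.val (LinearMap.congr_fun h2 ⟨d, hd⟩)
  have h4 := LinearMap.congr_fun (hcomm b hb b'.1 b'.2) d
  rw [Module.End.mul_apply, Module.End.mul_apply] at h4
  rw [← h4, h3]

theorem exists_cmp [FiniteDimensional k V] (𝒜 : Subalgebra k (Module.End k V))
    (hcomm : ∀ a ∈ 𝒜, ∀ b ∈ 𝒜, a * b = b * a) (C : Submodule k V) (hC : C ≠ ⊥)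
    (hCinv : ∀ a ∈ 𝒜, ∀ v ∈ C, a v ∈ C) : ∃ U : Submodule k V, IsCmp 𝒜 U ∧ U ⊓ C ≠ ⊥ := by
  -- a minimal nonzero invariant subspace of `C`
  obtain ⟨D, ⟨hD0, hDC, hD⟩, hmin⟩ := (wellFounded_lt (α := Submodule k V)).has_min
    {D : Submodule k V | D ≠ ⊥ ∧ D ≤ C ∧ ∀ a ∈ 𝒜, ∀ v ∈ D, a v ∈ D} ⟨C, hC, le_rfl, hCinv⟩
  have h1 : ∀ b ∈ 𝒜, D ≤ LinearMap.ker b ∨ D ⊓ LinearMap.ker b = ⊥ := by
    intro b hb
    by_cases h0 : D ⊓ LinearMap.ker b = ⊥
    · exact Or.inr h0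
    · left
      have hmem : D ⊓ LinearMap.ker b ∈
          {D : Submodule k V | D ≠ ⊥ ∧ D ≤ C ∧ ∀ a ∈ 𝒜, ∀ v ∈ D, a v ∈ D} := by
        refine ⟨h0, inf_le_left.trans hDC, ?_⟩
        rintro a ha v ⟨hv1, hv2⟩
        refine ⟨hD a ha v hv1, ?_⟩
        have h4 := LinearMap.congr_fun (hcomm b hb a ha) v
        rw [Module.End.mul_apply, Module.End.mul_apply] at h4
        have hv2' : b v = 0 := hv2
        show b (a v) = 0
        rw [h4, hv2', map_zero]
      have hnlt := hmin _ hmem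
      have heq : D ⊓ LinearMap.ker b = D := by
        by_contra hne
        exact hnlt (lt_of_le_of_ne inf_le_left hne)
      rw [← heq]
      exact inf_le_right
  let U : Submodule k V :=
    { carrier := {v | ∀ a ∈ 𝒜, D ≤ LinearMap.ker a → a v = 0}
      add_mem' := by
        intro x y hx hy a ha h
        rw [map_add, hx a ha h, hy a ha h, add_zero]
      zero_mem' := by
        intro a _ _
        exact map_zero a
      smul_mem' := by
        intro c x hx a ha h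
        rw [map_smul, hx a ha h, smul_zero] }
  have hU : ∀ v, v ∈ U ↔ ∀ a ∈ 𝒜, D ≤ LinearMap.ker a → a v = 0 := fun _ => Iff.rfl
  have hDU : D ≤ U := by
    intro d hd a _ h
    exact h hd
  have hann : ∀ a ∈ 𝒜, D ≤ LinearMap.ker a → U ≤ LinearMap.ker a := by
    intro a ha h u hu
    exact hu a ha h
  refine ⟨U, ⟨?_, ?_, ?_⟩, ?_⟩
  · intro h
    apply hD0
    rw [eq_bot_iff, ← h]
    exact hDU
  · intro b hb
    rcases h1 b hb with h | h
    · exact Or.inl (hann b hb h)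
    · right
      obtain ⟨b', hb', hinv⟩ := DEC2_inv 𝒜 hcomm D hD0 hD h1 b hb h
      rw [eq_bot_iff]
      rintro u ⟨hu1, hu2⟩
      have hk : D ≤ LinearMap.ker (b' * b - 1) := by
        intro d hd
        rw [LinearMap.mem_ker, LinearMap.sub_apply, Module.End.mul_apply, hinv d hd,
          Module.End.one_apply, sub_self]
      have h5 := hu1 (b' * b - 1) (𝒜.sub_mem (𝒜.mul_mem hb' hb) 𝒜.one_mem) hk
      have hu2' : b u = 0 := hu2
      rw [LinearMap.sub_apply, Module.End.mul_apply, hu2', map_zero, Module.End.one_apply,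
        zero_sub, neg_eq_zero] at h5
      exact h5
  · intro v hv a ha h
    exact hv a ha (hann a ha h)
  · intro h
    apply hD0
    rw [eq_bot_iff, ← h]
    exact le_inf hDU hDC

theorem dec2 [FiniteDimensional k V] (𝒜 : Subalgebra k (Module.End k V))
    (hcomm : ∀ a ∈ 𝒜, ∀ b ∈ 𝒜, a * b = b * a)
    (hCP : ∀ X : Submodule k V, (∀ a ∈ 𝒜, ∀ v ∈ X, a v ∈ X) →
      ∃ Y : Submodule k V, (∀ a ∈ 𝒜, ∀ v ∈ Y, a v ∈ Y) ∧ IsCompl X Y) :
    sSup {U : Submodule k V | IsCmp 𝒜 U} = ⊤ := by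
  have hinv : ∀ a ∈ 𝒜, ∀ v ∈ sSup {U : Submodule k V | IsCmp 𝒜 U},
      a v ∈ sSup {U : Submodule k V | IsCmp 𝒜 U} := by
    intro a ha
    have : sSup {U : Submodule k V | IsCmp 𝒜 U} ≤
        (sSup {U : Submodule k V | IsCmp 𝒜 U}).comap a := by
      apply sSup_le
      intro U hU u hu
      exact (le_sSup hU : U ≤ _) (IsCmp.inv hU a (fun a' ha' => hcomm a ha a' ha') u hu)
    exact fun v hv => this hv
  obtain ⟨Y, hY, hXY⟩ := hCP _ hinv
  by_cases hY0 : Y = ⊥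
  · have := hXY.sup_eq_top
    rwa [hY0, sup_bot_eq] at this
  · exfalso
    obtain ⟨U, hU, hUY⟩ := exists_cmp 𝒜 hcomm Y hY0 hY
    apply hUY
    rw [eq_bot_iff, ← hXY.inf_eq_bot]
    exact inf_le_inf_right Y (le_sSup hU)

end Cfsg.Agent.Lib.Helper25.FrF
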