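import Mathlib
import Cfsg.Agent.Lib.Helper25.FrF.Defs

/-!
# S4396 farm, piece [FA]  (by helper73)
-/

set_option autoImplicit false
set_option linter.unusedSectionVars false
set_option linter.unusedVariables false

namespace Cfsg.Agent.Lib.Helper25.FrF

open Subgroup

variable {k : Type*} [Field k] {V : Type*} [AddCommGroup V] [Module k V] {A : Type*} [Group A]

theorem bl [Finite A] (F K : Subgroup A) (hKF : K ≤ F) (h : A)
    (hfpf : ∀ x ∈ F, h * x = x * h → x = 1) (hK : ∀ x ∈ K, h * x * h⁻¹ ∈ K) {z : A} (hz : z ∈ F)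
    (hzK : h * z * h⁻¹ * z⁻¹ ∈ K) : z ∈ K := by
  have key : ∀ x ∈ F, ∀ y ∈ F, h * x * h⁻¹ * x⁻¹ = h * y * h⁻¹ * y⁻¹ → x = y := by
    intro x hx y hy hxy
    have h1 : h * (y⁻¹ * x) = (y⁻¹ * x) * h := by
      have h2 : x * h⁻¹ * x⁻¹ = y * h⁻¹ * y⁻¹ := by
        have := congrArg (fun t => h⁻¹ * t) hxy
        simpa [mul_assoc] using this
      have h3 : (y⁻¹ * x) * h⁻¹ = h⁻¹ * (y⁻¹ * x) := by
        have := congrArg (fun t => y⁻¹ * t * x) h2
        simpa [mul_assoc] using this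
      have := congrArg (fun t => h * t * h) h3
      simpa [mul_assoc] using this
    have h4 := hfpf _ (F.mul_mem (F.inv_mem hy) hx) h1
    exact (inv_mul_eq_one.mp h4).symm
  let φ : K → K := fun x => ⟨h * x * h⁻¹ * x⁻¹, K.mul_mem (hK x x.2) (K.inv_mem x.2)⟩
  have hinj : Function.Injective φ := by
    intro x y hxy
    apply Subtype.ext
    exact key x (hKF x.2) y (hKF y.2) (congrArg Subtype.val hxy)
  obtain ⟨x, hx⟩ := (Finite.injective_iff_surjective.mp hinj) ⟨_, hzK⟩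
  have h5 := key x (hKF x.2) z hz (congrArg Subtype.val hx)
  rw [← h5]
  exact x.2

theorem faithful [Finite A] (ρ : Representation k A V) (F Z : Subgroup A) (hF : F.Normal)
    (hZF : Z ≤ F) (U : Submodule k V) (hZU : ∀ z ∈ Z, ∀ u ∈ U, ρ z u ∈ U) (h : A)
    (hfpf : ∀ x ∈ F, h * x = x * h → x = 1) (hhU' : ∀ u ∈ U, ρ h⁻¹ u ∈ U)
    (hnt : ¬ ∀ z ∈ Z, ∀ u ∈ U, ρ z u = u) :
    ∃ z ∈ Z, ∃ u ∈ U, ρ h (ρ z (ρ h⁻¹ u)) ≠ ρ z u := by
  by_contra hcon
  push Not at hcon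
  apply hnt
  have hcancel : ∀ (g : A) (v : V), ρ g (ρ g⁻¹ v) = v := by
    intro g v
    rw [← Module.End.mul_apply, ← map_mul, mul_inv_cancel, map_one, Module.End.one_apply]
  have hcancel' : ∀ (g : A) (v : V), ρ g⁻¹ (ρ g v) = v := by
    intro g v
    rw [← Module.End.mul_apply, ← map_mul, inv_mul_cancel, map_one, Module.End.one_apply]
  let K : Subgroup A :=
    { carrier := {x | x ∈ F ∧ ∀ u ∈ U, ρ x u = u}
      mul_mem' := by
        rintro a b ⟨ha, ha'⟩ ⟨hb, hb'⟩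
        refine ⟨F.mul_mem ha hb, fun u hu => ?_⟩
        rw [map_mul, Module.End.mul_apply, hb' u hu, ha' u hu]
      one_mem' := ⟨F.one_mem, fun u _ => by rw [map_one, Module.End.one_apply]⟩
      inv_mem' := by
        rintro a ⟨ha, ha'⟩
        refine ⟨F.inv_mem ha, fun u hu => ?_⟩
        conv_lhs => rw [← ha' u hu]
        exact hcancel' a u }
  have hKF : K ≤ F := fun x hx => hx.1
  have hK : ∀ x ∈ K, h * x * h⁻¹ ∈ K := by
    rintro x ⟨hxF, hxU⟩
    refine ⟨hF.conj_mem x hxF h, fun u hu => ?_⟩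
    rw [map_mul, map_mul, Module.End.mul_apply, Module.End.mul_apply, hxU _ (hhU' u hu), hcancel]
  intro z hz u hu
  have hzK : h * z * h⁻¹ * z⁻¹ ∈ K := by
    refine ⟨F.mul_mem (hF.conj_mem z (hZF hz) h) (F.inv_mem (hZF hz)), fun u hu => ?_⟩
    rw [map_mul, map_mul, map_mul, Module.End.mul_apply, Module.End.mul_apply,
      Module.End.mul_apply, hcon z hz _ (hZU z⁻¹ (Z.inv_mem hz) u hu), hcancel]
  exact (bl F K hKF h hfpf hK (hZF hz) hzK).2 u hu

end Cfsg.Agent.Lib.Helper25.FrF
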