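import Mathlib
import Cfsg.Prelude
import Cfsg.Agent.Lib.Helper25.FrF.Defs

/-!
# S4396 farm, piece [G1]  (file Cfsg/Agent/Lib/Helper25/FrF/G1.lean)

In a Frobenius group every nonidentity element of the complement is fixed point free on the kernel.
-/

set_option autoImplicit false
set_option linter.unusedSectionVars false
set_option linter.unusedVariables false

namespace Cfsg.Agent.Lib.Helper25.FrF

open Subgroup
open scoped Pointwise commutatorElement

theorem frob_fpf {A : Type*} [Group A] (Fk Hc : Subgroup A) (hHc : Cfsg.IsFrobeniusComplement Hc)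
    (hker : Cfsg.frobeniusKernel Hc = (Fk : Set A)) :
    ∀ h ∈ Hc, h ≠ 1 → ∀ x ∈ Fk, h * x = x * h → x = 1 := by
  intro h hh h1 x hx hc
  by_contra hx1
  have hxk : x ∈ Cfsg.frobeniusKernel Hc := by rw [hker]; exact hx
  have hx2 : ∀ g : A, x ∉ MulAut.conj g • Hc := hxk.resolve_left hx1
  have hxH : x ∉ Hc := by
    have := hx2 1
    simpa using this
  have h3 := hHc.2.2 x hxH
  apply h1
  have h4 : h ∈ Hc ⊓ (MulAut.conj x • Hc) := by
    refine Subgroup.mem_inf.2 ⟨hh, ?_⟩
    rw [Subgroup.mem_pointwise_smul_iff_inv_smul_mem]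
    have h5 : (MulAut.conj x)⁻¹ • h = h := by
      rw [← map_inv, MulAut.smul_def, MulAut.conj_apply, inv_inv]
      rw [mul_assoc, hc, ← mul_assoc, inv_mul_cancel, one_mul]
    rw [h5]
    exact hh
  rw [h3] at h4
  exact Subgroup.mem_bot.1 h4

end Cfsg.Agent.Lib.Helper25.FrF
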