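import Mathlib
import Cfsg.Agent.Lib.Helper25.FrF.Defs

/-!
# S4396 farm, piece [NT]  (file Cfsg/Agent/Lib/Helper25/FrF/NT.lean)

Some element of `F` acts centrally and nontrivially.
-/

set_option autoImplicit false
set_option linter.unusedSectionVars false
set_option linter.unusedVariables false

namespace Cfsg.Agent.Lib.Helper25.FrF

open Subgroup
open scoped Pointwise commutatorElement

variable {k : Type*} [Field k] {V : Type*} [AddCommGroup V] [Module k V] {A : Type*} [Group A]

theorem exists_z [Nontrivial V] {ρ : Representation k A V} {F H : Subgroup A} (c : FH ρ F H) :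
    ∃ z ∈ zsub ρ F, ρ z ≠ 1 := by
  classical
  obtain ⟨m, hm⟩ := (Subgroup.isNilpotent_iff_lowerCentralSeries F).1 c.nil
  have hex : ∃ n, ∀ x ∈ F.lowerCentralSeries n, ρ x = 1 := by
    refine ⟨m, fun x hx => ?_⟩
    rw [hm, Subgroup.mem_bot] at hx
    rw [hx, map_one]
  have h0 : ¬ ∀ x ∈ F.lowerCentralSeries 0, ρ x = 1 := by
    intro h
    obtain ⟨v, hv⟩ := exists_ne (0 : V)
    apply hv
    apply c.fix
    intro f hf
    rw [h f hf]
    rfl
  have hn0 : Nat.find hex ≠ 0 := by
    intro h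
    exact h0 (h ▸ Nat.find_spec hex)
  obtain ⟨n', hn'⟩ := Nat.exists_eq_succ_of_ne_zero hn0
  have h1 : ¬ ∀ x ∈ F.lowerCentralSeries n', ρ x = 1 :=
    Nat.find_min hex (by rw [hn']; exact Nat.lt_succ_self n')
  push Not at h1
  obtain ⟨z, hz, hz1⟩ := h1
  have hzF : z ∈ F := (Subgroup.lowerCentralSeries_antitone F (Nat.zero_le n')) hz
  refine ⟨z, ⟨hzF, fun x hx => ?_⟩, hz1⟩
  have h2 : ⁅z, x⁆ ∈ F.lowerCentralSeries (n' + 1) := by
    rw [Subgroup.lowerCentralSeries_succ]
    exact Subgroup.commutator_mem_commutator hz hx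
  have h3 : ρ ⁅z, x⁆ = 1 := by
    have := Nat.find_spec hex
    rw [hn'] at this
    exact this _ h2
  have h4 : z * x = ⁅z, x⁆ * (x * z) := by
    rw [commutatorElement_def]; group
  rw [← map_mul, h4, map_mul, h3, one_mul, map_mul]

theorem finrank_fixS_lt [Nontrivial V] [FiniteDimensional k V] {ρ : Representation k A V}
    {F H : Subgroup A} (c : FH ρ F H) :
    Module.finrank k (fixS ρ (zsub ρ F)) < Module.finrank k V := by
  apply Submodule.finrank_lt
  intro h
  obtain ⟨z, hz, hz1⟩ := exists_z c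
  apply hz1
  ext v
  have hv : v ∈ fixS ρ (zsub ρ F) := by rw [h]; exact Submodule.mem_top
  exact hv z hz

end Cfsg.Agent.Lib.Helper25.FrF
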