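import Mathlib

/-!
# S4396 farm, piece [OLa]  (file Cfsg/Agent/Lib/Helper25/FrF/OLa.lean)

Dimension criteria for independence (pure linear algebra, Mathlib only).
-/

set_option autoImplicit false
set_option linter.unusedSectionVars false
set_option linter.unusedVariables false

namespace Cfsg.Agent.Lib.Helper25.FrF

variable {k : Type*} [Field k] {V : Type*} [AddCommGroup V] [Module k V]

theorem OLa_finrank_dom [FiniteDimensional k V] {ι : Type*} [Fintype ι] [DecidableEq ι]
    (X : ι → Submodule k V) :
    Module.finrank k (Π₀ i, X i) = ∑ i, Module.finrank k (X i) :=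
  Module.finrank_directSum k (fun i => X i)

theorem finrank_iSup_le [FiniteDimensional k V] {ι : Type*} [Fintype ι] (X : ι → Submodule k V) :
    Module.finrank k (⨆ i, X i : Submodule k V) ≤ ∑ i, Module.finrank k (X i) := by
  classical
  rw [Submodule.iSup_eq_range_dfinsupp_lsum, ← OLa_finrank_dom X]
  haveI : Module.Finite k (Π₀ i, X i) :=
    inferInstanceAs (Module.Finite k (DirectSum ι (fun i => X i)))
  exact LinearMap.finrank_range_le _

theorem finrank_eq_sum_of_indep [FiniteDimensional k V] {ι : Type*} [Fintype ι]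
    (X : ι → Submodule k V) (h : iSupIndep X) :
    Module.finrank k (⨆ i, X i : Submodule k V) = ∑ i, Module.finrank k (X i) := by
  classical
  rw [Submodule.iSup_eq_range_dfinsupp_lsum, ← OLa_finrank_dom X]
  exact LinearMap.finrank_range_of_inj h.dfinsupp_lsum_injective

theorem indep_of_finrank_le [FiniteDimensional k V] {ι : Type*} [Fintype ι]
    (X : ι → Submodule k V) (hsup : ⨆ i, X i = ⊤)
    (hle : ∑ i, Module.finrank k (X i) ≤ Module.finrank k V) : iSupIndep X := by
  classical
  haveI : Module.Finite k (Π₀ i, X i) :=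
    inferInstanceAs (Module.Finite k (DirectSum ι (fun i => X i)))
  apply iSupIndep_of_dfinsupp_lsum_injective
  rw [← LinearMap.ker_eq_bot]
  have h1 := LinearMap.finrank_range_add_finrank_ker
    (DFinsupp.lsum ℕ (fun i => (X i).subtype) : (Π₀ i, X i) →ₗ[k] V)
  rw [← Submodule.iSup_eq_range_dfinsupp_lsum, hsup, finrank_top, OLa_finrank_dom X] at h1
  apply Submodule.finrank_eq_zero.mp
  omega

end Cfsg.Agent.Lib.Helper25.FrF
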