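import Mathlib
import Cfsg.Agent.Lib.Helper25.FrF.OLa

/-!
# S4396 farm, piece [OLb]  (file Cfsg/Agent/Lib/Helper25/FrF/OLb.lean)

Orbit lemma, type level: V = ⊕ X i, G permutes the X i, every X i is free for the stabilizer of i
⇒  V is free for G.
-/

set_option autoImplicit false
set_option linter.unusedSectionVars false
set_option linter.unusedVariables false

namespace Cfsg.Agent.Lib.Helper25.FrF

variable {k : Type*} [Field k] {V : Type*} [AddCommGroup V] [Module k V]

theorem OLb_inj {G : Type*} [Group G] (σ : Representation k G V) (g : G) :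
    Function.Injective (σ g) := by
  intro a b hab
  have h1 : σ g⁻¹ * σ g = 1 := by rw [← map_mul, inv_mul_cancel, map_one]
  have h2 : ∀ v, σ g⁻¹ (σ g v) = v := fun v => by
    have := congrArg (fun f => f v) h1
    simpa using this
  rw [← h2 a, hab, h2 b]

theorem OLb_finrank_map {G : Type*} [Group G] (σ : Representation k G V) (g : G)
    (Y : Submodule k V) : Module.finrank k (Y.map (σ g)) = Module.finrank k Y :=
  (LinearEquiv.finrank_eq (Submodule.equivMapOfInjective (σ g) (OLb_inj σ g) Y)).symm

theorem orbit_core [FiniteDimensional k V] {G : Type*} [Group G] [Finite G]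
    (σ : Representation k G V) {ι : Type*} [Fintype ι] [MulAction G ι]
    (X : ι → Submodule k V) (hind : iSupIndep X) (hsup : ⨆ i, X i = ⊤)
    (hperm : ∀ (g : G) (i : ι), (X i).map (σ g) = X (g • i))
    (Wf : ι → Submodule k V)
    (hW1 : ∀ i, iSupIndep (fun s : MulAction.stabilizer G i => (Wf i).map (σ (s : G))))
    (hW2 : ∀ i, ⨆ s : MulAction.stabilizer G i, (Wf i).map (σ (s : G)) = X i) :
    ∃ W : Submodule k V, iSupIndep (fun g : G => W.map (σ g)) ∧ ⨆ g : G, W.map (σ g) = ⊤ := by
  classical
  haveI : Fintype G := Fintype.ofFinite G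
  haveI : Fintype (MulAction.orbitRel.Quotient G ι) := Fintype.ofFinite _
  set r : MulAction.orbitRel.Quotient G ι → ι := Quotient.out with hr
  set W : Submodule k V := ⨆ ω : MulAction.orbitRel.Quotient G ι, Wf (r ω) with hW
  have hfib : ∀ (ω : MulAction.orbitRel.Quotient G ι) (i : ι),
      (Quotient.mk'' i : MulAction.orbitRel.Quotient G ι) = ω ↔ i ∈ MulAction.orbit G (r ω) := by
    intro ω i
    rw [← MulAction.orbitRel_apply]
    constructor
    · intro h
      exact Quotient.exact' (h.trans (Quotient.out_eq' ω).symm)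
    · intro h
      exact (Quotient.sound' h).trans (Quotient.out_eq' ω)
  -- spanning
  have hspan : ⨆ g : G, W.map (σ g) = ⊤ := by
    rw [eq_top_iff, ← hsup]
    refine iSup_le fun i => ?_
    obtain ⟨g, hg⟩ := (hfib (Quotient.mk'' i) i).mp rfl
    have hg' : g • r (Quotient.mk'' i) = i := hg
    rw [← hg', ← hperm, ← hW2, Submodule.map_iSup]
    refine iSup_le fun s => ?_
    have h1 : ((Wf (r (Quotient.mk'' i))).map (σ (s : G))).map (σ g)
        = (Wf (r (Quotient.mk'' i))).map (σ (g * s)) := by
      rw [map_mul, Module.End.mul_eq_comp, Submodule.map_comp]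
    rw [h1]
    exact le_trans (Submodule.map_mono (le_iSup (fun ω => Wf (r ω)) (Quotient.mk'' i)))
      (le_iSup (fun g' : G => W.map (σ g')) (g * s))
  refine ⟨W, indep_of_finrank_le _ hspan ?_, hspan⟩
  -- dimensions
  have hd1 : ∀ (g : G) (i : ι), Module.finrank k (X (g • i)) = Module.finrank k (X i) := by
    intro g i
    rw [← hperm, OLb_finrank_map]
  have hd2 : ∀ i, Module.finrank k (X i)
      = Fintype.card (MulAction.stabilizer G i) * Module.finrank k (Wf i) := by
    intro i
    rw [← hW2 i, finrank_eq_sum_of_indep _ (hW1 i)]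
    simp only [OLb_finrank_map]
    rw [Finset.sum_const, Finset.card_univ, smul_eq_mul]
  have hV : Module.finrank k V = ∑ i, Module.finrank k (X i) := by
    rw [← finrank_eq_sum_of_indep X hind, hsup, finrank_top]
  have hfibsum : ∀ ω : MulAction.orbitRel.Quotient G ι,
      ∑ i ∈ Finset.univ.filter
        (fun i => (Quotient.mk'' i : MulAction.orbitRel.Quotient G ι) = ω),
        Module.finrank k (X i) = Fintype.card G * Module.finrank k (Wf (r ω)) := by
    intro ω
    have h1 : ∀ i ∈ Finset.univ.filter
        (fun i => (Quotient.mk'' i : MulAction.orbitRel.Quotient G ι) = ω),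
        Module.finrank k (X i) = Module.finrank k (X (r ω)) := by
      intro i hi
      obtain ⟨g, hg⟩ := (hfib ω i).mp (Finset.mem_filter.mp hi).2
      have hg' : g • r ω = i := hg
      rw [← hg', hd1]
    rw [Finset.sum_congr rfl h1, Finset.sum_const, smul_eq_mul, hd2 (r ω), ← mul_assoc]
    congr 1
    rw [← MulAction.card_orbit_mul_card_stabilizer_eq_card_group G (r ω)]
    congr 1
    rw [← Set.toFinset_card]
    congr 1
    ext i
    simp [hfib]
  calc ∑ g : G, Module.finrank k (W.map (σ g))
      = Fintype.card G * Module.finrank k W := by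
        simp only [OLb_finrank_map]
        rw [Finset.sum_const, Finset.card_univ, smul_eq_mul]
    _ ≤ Fintype.card G * ∑ ω : MulAction.orbitRel.Quotient G ι, Module.finrank k (Wf (r ω)) :=
        Nat.mul_le_mul_left _ (finrank_iSup_le _)
    _ = ∑ ω : MulAction.orbitRel.Quotient G ι, ∑ i ∈ Finset.univ.filter
        (fun i => (Quotient.mk'' i : MulAction.orbitRel.Quotient G ι) = ω),
        Module.finrank k (X i) := by
        rw [Finset.mul_sum]
        exact Finset.sum_congr rfl fun ω _ => (hfibsum ω).symm
    _ = ∑ i, Module.finrank k (X i) :=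
        Finset.sum_fiberwise _ _ _
    _ = Module.finrank k V := hV.symm

end Cfsg.Agent.Lib.Helper25.FrF
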