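import Mathlib
import Cfsg.Agent.Lib.Helper25.FrF.Defs
import Cfsg.Agent.Lib.Helper25.FrF.OLb

/-!
# S4396 farm, piece [OLc]  (file Cfsg/Agent/Lib/Helper25/FrF/OLc.lean)

Orbit lemma, ambient form.
-/

set_option autoImplicit false
set_option linter.unusedSectionVars false
set_option linter.unusedVariables false

namespace Cfsg.Agent.Lib.Helper25.FrF

open Subgroup

variable {k : Type*} [Field k] {V : Type*} [AddCommGroup V] [Module k V] {A : Type*} [Group A]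

theorem OLc_map_ne_bot (ρ : Representation k A V) (a : A) (U : Submodule k V) (hU : U ≠ ⊥) :
    U.map (ρ a) ≠ ⊥ := by
  intro h
  apply hU
  have h1 : (U.map (ρ a)).map (ρ a⁻¹) = U := by
    rw [← map_rho_mul, inv_mul_cancel, map_rho_one]
  rw [← h1, h, Submodule.map_bot]

/-- the action of `H` on the nonzero members of `𝒰`. -/
@[reducible] def OLc_act (ρ : Representation k A V) (H : Subgroup A)
    (𝒰 : Set (Submodule k V)) (hH : ∀ h ∈ H, ∀ U ∈ 𝒰, U.map (ρ h) ∈ 𝒰) :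
    MulAction H {U : Submodule k V // U ∈ 𝒰 ∧ U ≠ ⊥} where
  smul h U := ⟨U.1.map (ρ (h : A)), hH h h.2 U.1 U.2.1, OLc_map_ne_bot ρ h U.1 U.2.2⟩
  one_smul U := Subtype.ext (map_rho_one ρ U.1)
  mul_smul a b U := Subtype.ext (map_rho_mul ρ a b U.1)

theorem orbit_lemma [FiniteDimensional k V] [Finite A] (ρ : Representation k A V) (H : Subgroup A)
    (𝒰 : Set (Submodule k V)) (hind : sSupIndep 𝒰) (hsup : sSup 𝒰 = ⊤)
    (hH : ∀ h ∈ H, ∀ U ∈ 𝒰, U.map (ρ h) ∈ 𝒰)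
    (hfr : ∀ U ∈ 𝒰, Fr ρ (stb ρ H U) U) : Fr ρ H ⊤ := by
  classical
  letI := OLc_act ρ H 𝒰 hH
  have hindX : iSupIndep (fun i : {U : Submodule k V // U ∈ 𝒰 ∧ U ≠ ⊥} => i.1) := by
    have h1 : sSupIndep {U : Submodule k V | U ∈ 𝒰 ∧ U ≠ ⊥} :=
      hind.mono (fun U hU => hU.1)
    exact (sSupIndep_iff _).mp h1
  haveI : Finite {U : Submodule k V // U ∈ 𝒰 ∧ U ≠ ⊥} :=
    WellFoundedGT.finite_of_iSupIndep hindX (fun i => i.2.2)
  haveI : Fintype {U : Submodule k V // U ∈ 𝒰 ∧ U ≠ ⊥} := Fintype.ofFinite _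
  have hsupX : ⨆ i : {U : Submodule k V // U ∈ 𝒰 ∧ U ≠ ⊥}, i.1 = ⊤ := by
    rw [eq_top_iff, ← hsup]
    refine sSup_le fun U hU => ?_
    by_cases hb : U = ⊥
    · rw [hb]; exact bot_le
    · exact le_iSup (fun i : {U : Submodule k V // U ∈ 𝒰 ∧ U ≠ ⊥} => i.1) ⟨U, hU, hb⟩
  -- the stabilizers
  let e : ∀ i : {U : Submodule k V // U ∈ 𝒰 ∧ U ≠ ⊥},
      ↥(MulAction.stabilizer H i) ≃ ↥(stb ρ H i.1) := fun i =>
    { toFun := fun s => ⟨((s : H) : A), (s : H).2, congrArg Subtype.val s.2⟩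
      invFun := fun s => ⟨⟨(s : A), s.2.1⟩, Subtype.ext s.2.2⟩
      left_inv := fun s => rfl
      right_inv := fun s => rfl }
  obtain ⟨W, hW1, hW2⟩ := orbit_core (ρ.comp H.subtype)
    (fun i : {U : Submodule k V // U ∈ 𝒰 ∧ U ≠ ⊥} => i.1) hindX hsupX
    (fun g i => rfl)
    (fun i => Classical.choose (hfr i.1 i.2.1))
    (fun i => (Classical.choose_spec (hfr i.1 i.2.1)).1.comp (e i).injective)
    (fun i => ((e i).iSup_comp
        (g := fun s : ↥(stb ρ H i.1) => (Classical.choose (hfr i.1 i.2.1)).map (ρ (s : A)))).trans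
        (Classical.choose_spec (hfr i.1 i.2.1)).2)
  exact ⟨W, hW1, hW2⟩

end Cfsg.Agent.Lib.Helper25.FrF
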