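import Mathlib
import Cfsg.Prelude
import Cfsg.Agent.Lib.Helper25.FrF.Defs
import Cfsg.Agent.Lib.Helper76.Nilp
import Cfsg.Agent.Lib.Helper12.PGroupFixed

/-!
# S4396 farm, piece [P2]  (helper3)

Reduction to a normal subgroup N ≤ F of order invertible in k.
-/

set_option autoImplicit false
set_option linter.unusedSectionVars false
set_option linter.unusedVariables false

namespace Cfsg.Agent.Lib.Helper25.FrF

open Subgroup Cfsg Cfsg.Agent.Lib.Lead Cfsg.Agent.Lib.Helper32 Cfsg.Agent.Lib.Helper91

theorem exists_pprime {k : Type*} [Field k] {V : Type*} [AddCommGroup V] [Module k V]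
    {A : Type*} [Group A] [Finite A] (ρ : Representation k A V) (F H : Subgroup A)
    (hn : F.Normal) (hnil : Group.IsNilpotent F)
    (hfpf : ∀ h ∈ H, h ≠ 1 → ∀ x ∈ F, h * x = x * h → x = 1)
    (hfix : ∀ v : V, (∀ f ∈ F, ρ f v = v) → v = 0) :
    ∃ N : Subgroup A, FH ρ N H := by
  classical
  obtain ⟨p, hp⟩ := CharP.exists k
  rcases CharP.char_is_prime_or_zero k p with hpp | hp0
  swap
  · subst hp0
    have : CharZero k := CharP.charP_to_charZero k
    exact ⟨F, hn, hnil, hfpf, Nat.cast_ne_zero.2 Nat.card_pos.ne', hfix⟩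
  have : Fact p.Prime := ⟨hpp⟩
  set C : Subgroup F := pPrimeCore p F with hC
  set N : Subgroup A := C.map F.subtype with hN
  have hNF : N ≤ F := by
    rintro _ ⟨x, _, rfl⟩
    exact x.2
  have hNn : N.Normal := normal_map_subtype_of_characteristic F _
  have hcard : Nat.card N = Nat.card C :=
    Nat.card_congr (C.equivMapOfInjective _ F.subtype_injective).toEquiv.symm
  have hcop : (Nat.card N).Coprime p := by
    rw [hcard]; exact card_pPrimeCore_coprime _
  refine ⟨N, hNn, ?_, fun h hh h1 x hx => hfpf h hh h1 x (hNF hx), ?_, ?_⟩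
  · exact Group.nilpotent_of_mulEquiv (C.equivMapOfInjective _ F.subtype_injective)
  · intro h0
    rw [CharP.cast_eq_zero_iff k p] at h0
    exact (Nat.Prime.coprime_iff_not_dvd hpp).1 hcop.symm h0
  · intro v hv
    by_contra hv0
    have hX : fixS ρ N ≠ ⊥ := by
      intro hbot
      have : v ∈ fixS ρ N := hv
      rw [hbot] at this
      exact hv0 ((Submodule.mem_bot k).1 this)
    let P : Sylow p F := default
    let ρ' : Representation k (P : Subgroup F) V :=
      ρ.comp (F.subtype.comp (P : Subgroup F).subtype)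
    have hinv : ∀ g : (P : Subgroup F), ∀ u ∈ fixS ρ N, ρ' g u ∈ fixS ρ N := by
      intro g u hu n hn'
      change ρ n (ρ ((g : F) : A) u) = ρ ((g : F) : A) u
      have h1 : (((g : F) : A))⁻¹ * n * ((g : F) : A) ∈ N := by
        have := hNn.conj_mem n hn' (((g : F) : A))⁻¹
        rwa [inv_inv] at this
      have h2 := hu _ h1
      have h3 : n * ((g : F) : A) = ((g : F) : A) * ((((g : F) : A))⁻¹ * n * ((g : F) : A)) := by
        group
      rw [← Module.End.mul_apply, ← map_mul, h3, map_mul, Module.End.mul_apply, h2]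
    obtain ⟨w, hwX, hw0, hwP⟩ :=
      Cfsg.Agent.Lib.Helper12.exists_fixed_ne_zero (p := p) P.2 ρ' (fixS ρ N) hinv hX
    let T : Subgroup F :=
      { carrier := {f | ρ (f : A) w = w}
        mul_mem' := by
          intro a b ha hb
          change ρ ((a * b : F) : A) w = w
          rw [Subgroup.coe_mul, map_mul, Module.End.mul_apply, hb, ha]
        one_mem' := by
          change ρ ((1 : F) : A) w = w
          rw [Subgroup.coe_one, map_one, Module.End.one_apply]
        inv_mem' := by
          intro a ha
          change ρ ((a⁻¹ : F) : A) w = w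
          have ha' : ρ (a : A) w = w := ha
          calc ρ ((a⁻¹ : F) : A) w = ρ ((a⁻¹ : F) : A) (ρ (a : A) w) := by rw [ha']
            _ = w := by
              rw [← Module.End.mul_apply, ← map_mul, Subgroup.coe_inv, inv_mul_cancel, map_one,
                Module.End.one_apply] }
    have hCT : C ≤ T := by
      intro c hc
      exact hwX (c : A) ⟨c, hc, rfl⟩
    have hPT : (P : Subgroup F) ≤ T := by
      intro g hg
      exact hwP ⟨g, hg⟩
    obtain ⟨j, hj⟩ := Cfsg.Agent.Lib.Helper76.index_pPrimeCore_of_nilpotent F p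
    have d1 : T.index ∣ p ^ j := by
      rw [← hj]; exact Subgroup.index_dvd_of_le hCT
    have d2 : T.index ∣ (P : Subgroup F).index := Subgroup.index_dvd_of_le hPT
    obtain ⟨i, _, hi⟩ := (Nat.dvd_prime_pow hpp).1 d1
    have hi0 : i = 0 := by
      by_contra hne
      apply P.not_dvd_index
      refine dvd_trans ?_ d2
      rw [hi]
      exact dvd_pow_self p hne
    rw [hi0, pow_zero, Subgroup.index_eq_one] at hi
    apply hw0
    apply hfix
    intro f hf
    have : (⟨f, hf⟩ : F) ∈ T := by rw [hi]; trivial
    exact this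

end Cfsg.Agent.Lib.Helper25.FrF
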