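import Mathlib
import Cfsg.Prelude
import Cfsg.Agent.Lib.Helper25.FrF.Defs
import Cfsg.Agent.Lib.Helper25.FrF.G1
import Cfsg.Agent.Lib.Helper25.FrF.P2
import Cfsg.Agent.Lib.Helper25.FrF.NT
import Cfsg.Agent.Lib.Helper25.FrF.AL
import Cfsg.Agent.Lib.Helper25.FrF.CM
import Cfsg.Agent.Lib.Helper25.FrF.DEC1
import Cfsg.Agent.Lib.Helper25.FrF.DEC2
import Cfsg.Agent.Lib.Helper25.FrF.CA
import Cfsg.Agent.Lib.Helper25.FrF.FA
import Cfsg.Agent.Lib.Helper25.FrF.D4
import Cfsg.Agent.Lib.Helper25.FrF.TR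
import Cfsg.Agent.Lib.Helper25.FrF.OLc

/-!
# S4396: assembly

Induction on `dim V`.  `Z` = the elements of `F` acting centrally, `𝒜 = k[ρ Z]`; `V` is the direct
sum of the components of `𝒜`, permuted by `H`.  The component `C_V(Z)` is handled by induction; on
the other components `U` the algebra `𝒜` induces a field on which the stabilizer of `U` in `H` acts
faithfully, and Galois descent + the normal basis theorem show that `U` is free for the stabilizer.
-/

set_option autoImplicit false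
set_option linter.unusedSectionVars false
set_option linter.unusedVariables false

namespace Cfsg.Agent.Lib.Helper25.FrF

open Subgroup

universe v

theorem main_T {k : Type*} [Field k] {A : Type*} [Group A] [Finite A] (F H : Subgroup A) :
    ∀ (n : ℕ) (V : Type v) [AddCommGroup V] [Module k V] [FiniteDimensional k V]
      (ρ : Representation k A V), Module.finrank k V = n → FH ρ F H → Fr ρ H ⊤ := by
  intro n
  induction n using Nat.strong_induction_on with
  | _ n ih =>
    intro V _ _ _ ρ hn c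
    rcases subsingleton_or_nontrivial V with hV | hV
    · exact fr_subsingleton ρ H
    have hZn : ∀ g : A, ∀ z ∈ zsub ρ F, g * z * g⁻¹ ∈ zsub ρ F :=
      fun g z hz => zsub_conj ρ F c.normal g hz
    have hcomm := alg_comm ρ F
    have hnorm : ∀ g : A, ∀ a ∈ alg ρ (zsub ρ F), ρ g * a * ρ g⁻¹ ∈ alg ρ (zsub ρ F) :=
      fun g => alg_norm ρ (zsub ρ F) g (hZn g)
    have hr1 : ∀ g : A, ρ g * ρ g⁻¹ = 1 := fun g => by rw [← map_mul, mul_inv_cancel, map_one]
    have hr2 : ∀ g : A, ρ g⁻¹ * ρ g = 1 := fun g => by rw [← map_mul, inv_mul_cancel, map_one]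
    apply orbit_lemma ρ H {U | IsCmp (alg ρ (zsub ρ F)) U} (dec1 _ hcomm)
      (dec2 _ hcomm (alg_cp ρ (zsub ρ F) (card_zsub_ne c)))
    · intro h _ U hU
      refine IsCmp.map hU (ρ h) (ρ h⁻¹) (hr1 h) (hr2 h) (hnorm h) ?_
      intro a ha
      have := hnorm h⁻¹ a ha
      rwa [inv_inv] at this
    · intro U hU
      by_cases hA : ∀ z ∈ zsub ρ F, ∀ u ∈ U, ρ z u = u
      · have hU0 : U = fixS ρ (zsub ρ F) := caseA ρ (zsub ρ F) hU hA
        have hinv := fixS_inv ρ (zsub ρ F) hZn
        have hst : stb ρ H U = H := by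
          ext h
          rw [mem_stb]
          refine ⟨fun h => h.1, fun hh => ⟨hh, ?_⟩⟩
          rw [hU0]
          apply le_antisymm
          · rintro _ ⟨v, hv, rfl⟩
            exact hinv h v hv
          · intro v hv
            refine ⟨ρ h⁻¹ v, hinv h⁻¹ v hv, ?_⟩
            rw [← Module.End.mul_apply, hr1]
            rfl
        rw [hst, hU0]
        apply fr_of_res ρ _ hinv
        exact ih _ (hn ▸ finrank_fixS_lt c) _ (resRep ρ _ hinv) rfl (c.res _ hinv)
      · have hUinv : ∀ a ∈ alg ρ (zsub ρ F), ∀ u ∈ U, a u ∈ U :=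
          fun a ha => hU.inv a (fun b hb => hcomm a ha b hb)
        have hstab : ∀ h ∈ stb ρ H U, ∀ u ∈ U, ρ h u ∈ U := by
          intro h hh u hu
          have h1 : ρ h u ∈ U.map (ρ h) := Submodule.mem_map_of_mem hu
          rwa [hh.2] at h1
        apply lemmaD ρ (stb ρ H U) U (alg ρ (zsub ρ F)) hcomm hUinv hU.2.1 hstab
        · intro h _
          exact hnorm h
        · intro h hh h1
          obtain ⟨z, hz, u, hu, hne⟩ := faithful ρ F (zsub ρ F) c.normal (fun z hz => hz.1) U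
            (fun z hz => hUinv _ (Algebra.subset_adjoin ⟨z, hz, rfl⟩)) h (c.fpf h hh.1 h1)
            (hstab h⁻¹ (inv_mem hh)) hA
          exact ⟨ρ z, Algebra.subset_adjoin ⟨z, hz, rfl⟩, u, hu, hne⟩

theorem final {k V A : Type*} [Field k] [AddCommGroup V] [Module k V] [FiniteDimensional k V]
    [Group A] [Finite A] [DecidableEq A] (ρ : Representation k A V)
    (Fk Hc : Subgroup A) [Fk.Normal] (hHc : Cfsg.IsFrobeniusComplement Hc)
    (hker : Cfsg.frobeniusKernel Hc = (Fk : Set A)) (hnil : Group.IsNilpotent ↥Fk)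
    (hCF : ∀ v : V, (∀ f ∈ Fk, ρ f v = v) → v = 0) :
    ∃ W : Submodule k V, DirectSum.IsInternal (fun h : ↥Hc => W.map (ρ (h : A))) := by
  obtain ⟨N, c⟩ := exists_pprime ρ Fk Hc inferInstance hnil (frob_fpf Fk Hc hHc hker) hCF
  obtain ⟨W, h1, h2⟩ := main_T N Hc _ V ρ rfl c
  exact ⟨W, (DirectSum.isInternal_submodule_iff_iSupIndep_and_iSup_eq_top _).2 ⟨h1, h2⟩⟩

end Cfsg.Agent.Lib.Helper25.FrF
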